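import Cfsg.Agent.Lib.Known.SL3Bounded.Torus

/-!
# One relation is redundant over the field with four elements
-/

set_option autoImplicit false

open CfsgLib.Known.SL2Bounded (cj)

namespace CfsgLib.Known.SL3Bounded.Core

variable {G : Type*} [Group G] (R : Core G)

theorem A_sq (ha : R.a * R.a = 1) (n : ℤ) : R.A n * R.A n = 1 := by
  rw [A, cj, show R.k ^ n * R.a * (R.k ^ n)⁻¹ * (R.k ^ n * R.a * (R.k ^ n)⁻¹) =
    R.k ^ n * (R.a * R.a) * (R.k ^ n)⁻¹ by group, ha]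
  group

theorem A_inv (ha : R.a * R.a = 1) (n : ℤ) : (R.A n)⁻¹ = R.A n := inv_eq_of_mul_eq_one_right (R.A_sq ha n)

theorem B_sq (ha : R.a * R.a = 1) (n : ℤ) : R.B n * R.B n = 1 := by
  rw [B, R.A_inv ha, show R.c⁻¹ * (R.w * R.A n * R.w⁻¹) * R.c * (R.c⁻¹ * (R.w * R.A n * R.w⁻¹) * R.c) =
    R.c⁻¹ * R.w * (R.A n * R.A n) * R.w⁻¹ * R.c by group, R.A_sq ha]
  group

theorem B_inv (ha : R.a * R.a = 1) (n : ℤ) : (R.B n)⁻¹ = R.B n := inv_eq_of_mul_eq_one_right (R.B_sq ha n)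

theorem A_period (hm : R.A 0 * R.A 1 * R.A 2 = 1) (n : ℤ) : R.A (n + 3) = R.A n := by
  have e0 : R.A 0 = (R.A 1 * R.A 2)⁻¹ := eq_inv_of_mul_eq_one_left (by rw [← mul_assoc]; exact hm)
  have e3 : R.A 3 = (R.A 1 * R.A 2)⁻¹ := by
    refine eq_inv_of_mul_eq_one_right ?_
    have h1 : ∀ x : ℤ, R.T 0 1 * R.A x * (R.T 0 1)⁻¹ = R.A (x + 1) := fun x => by
      rw [R.T_A]; congr 1; ring
    calc R.A 1 * R.A 2 * R.A 3
        = R.A (0 + 1) * R.A (1 + 1) * R.A (2 + 1) := rfl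
      _ = R.T 0 1 * (R.A 0 * R.A 1 * R.A 2) * (R.T 0 1)⁻¹ := by rw [← h1, ← h1, ← h1]; group
      _ = 1 := by rw [hm, mul_one, mul_inv_cancel]
  have hn := congrArg (fun g => R.T 0 n * g * (R.T 0 n)⁻¹) (e3.trans e0.symm)
  simp only [R.T_A] at hn
  rwa [show (3 : ℤ) + n - 2 * 0 = n + 3 by ring, show (0 : ℤ) + n - 2 * 0 = n by ring] at hn

theorem AB_zero (row0 : Commute (R.A 0) (R.B 0)) {n m l : ℤ} (h : n + m = 3 * l) : Commute (R.A n) (R.B m) := by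
  have h1 := conj_commute (g := R.T (-l) l) row0
  rw [R.T_A, R.T_B, show (0 : ℤ) + l - 2 * -l = n + m by omega, show (0 : ℤ) - -l - l = 0 by ring] at h1
  have h2 := conj_commute (g := R.T 0 (-m)) h1
  rwa [R.T_A, R.T_B, show n + m + -m - 2 * 0 = n by ring, show (0 : ℤ) - 0 - -m = m by ring] at h2

theorem AD_all (hm : R.A 0 * R.A 1 * R.A 2 = 1) (col0 : Commute (R.A 0) (R.D 0)) (col1 : Commute (R.A 1) (R.D 0))
    (n m : ℤ) : Commute (R.A n) (R.D m) := by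
  have col2 : Commute (R.A 2) (R.D 0) := by
    rw [eq_inv_of_mul_eq_one_right hm]
    exact (col0.mul_left col1).inv_left
  have h0 : ∀ x : ℤ, Commute (R.A x) (R.D 0) := by
    intro x
    obtain ⟨i, s, rfl, hs⟩ : ∃ i s : ℤ, x = 3 * i + s ∧ (s = 0 ∨ s = 1 ∨ s = 2) :=
      ⟨x / 3, x % 3, by omega, by omega⟩
    have e : Commute (R.A s) (R.D 0) := by rcases hs with rfl | rfl | rfl <;> assumption
    have := conj_commute (g := R.T (-2 * i) (-i)) e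
    rwa [R.T_A, R.T_D, show s + -i - 2 * (-2 * i) = 3 * i + s by ring,
      show (0 : ℤ) - -2 * i + 2 * -i = 0 by ring] at this
  have := conj_commute (g := R.T (-m) 0) (h0 (n - 2 * m))
  rwa [R.T_A, R.T_D, show n - 2 * m + 0 - 2 * -m = n by ring, show (0 : ℤ) - -m + 2 * 0 = m by ring] at this

theorem AC_class {s : ℤ} (com : R.A s * R.C 0 * (R.A s)⁻¹ = R.B s * R.C 0) {n m l : ℤ} (h : n - m = 3 * l + s) :
    R.A n * R.C m * (R.A n)⁻¹ = R.B (n + m) * R.C m := by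
  have e := congrArg (fun g => R.T (-2 * l - m) (-l - m) * g * (R.T (-2 * l - m) (-l - m))⁻¹) com
  obtain ⟨T, hT⟩ : ∃ T, T = R.T (-2 * l - m) (-l - m) := ⟨_, rfl⟩
  simp only [← hT, show T * (R.A s * R.C 0 * (R.A s)⁻¹) * T⁻¹ =
      (T * R.A s * T⁻¹) * (T * R.C 0 * T⁻¹) * (T * R.A s * T⁻¹)⁻¹ by group,
    show T * (R.B s * R.C 0) * T⁻¹ = (T * R.B s * T⁻¹) * (T * R.C 0 * T⁻¹) by group] at e
  rw [hT, R.T_A, R.T_B, R.T_C] at e
  rwa [show s + (-l - m) - 2 * (-2 * l - m) = n by omega, show (0 : ℤ) + (-2 * l - m) - 2 * (-l - m) = m by ring,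
    show s - (-2 * l - m) - (-l - m) = n + m by omega] at e

/-- the row relation at exponent one follows from the others -/
theorem row_one (ha : R.a * R.a = 1) (hm : R.A 0 * R.A 1 * R.A 2 = 1) (row0 : Commute (R.A 0) (R.B 0))
    (col0 : Commute (R.A 0) (R.D 0)) (col1 : Commute (R.A 1) (R.D 0))
    (com0 : R.A 0 * R.C 0 * (R.A 0)⁻¹ = R.B 0 * R.C 0) (com1 : R.A 1 * R.C 0 * (R.A 1)⁻¹ = R.B 1 * R.C 0) :
    Commute (R.A 1) (R.B 0) := by
  have hCB : ∀ n m : ℤ, Commute (R.C n) (R.B m) := fun n m => by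
    have := conj_commute (g := R.c) (R.AD_all hm col0 col1 n m)
    rwa [show R.c * R.D m * R.c⁻¹ = R.c * R.c * (R.w * (R.A m)⁻¹ * R.w⁻¹) * (R.c⁻¹ * R.c⁻¹) by rw [D]; group,
      R.cc, R.cinv2] at this
  -- the root group `13` is abelian
  have hB0 : ∀ k l : ℤ, (k = 3 * l ∨ k = 3 * l + 2) → Commute (R.B 0) (R.B k) := by
    intro k l hk
    have e : R.B k = R.A 0 * R.C k * (R.A 0)⁻¹ * (R.C k)⁻¹ := by
      rcases hk with hk | hk
      · rw [R.AC_class com0 (l := -l) (by omega), zero_add, mul_inv_cancel_right]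
      · rw [R.AC_class com1 (l := -l - 1) (by omega), zero_add, mul_inv_cancel_right]
    have h1 : Commute (R.B 0) (R.A 0) := row0.symm
    have h2 : Commute (R.B 0) (R.C k) := (hCB k 0).symm
    rw [e]
    exact ((h1.mul_right h2).mul_right h1.inv_right).mul_right h2.inv_right
  have hBB : ∀ k : ℤ, Commute (R.B 0) (R.B k) := by
    intro k
    obtain ⟨l, hl | hl | hl⟩ : ∃ l, k = 3 * l ∨ k = 3 * l + 1 ∨ k = 3 * l + 2 := ⟨k / 3, by omega⟩
    · exact hB0 k l (Or.inl hl)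
    · have := conj_commute (g := R.T 0 (-k)) (hB0 (-k) (-l - 1) (Or.inr (by omega)))
      rw [R.T_B, R.T_B, show (0 : ℤ) - 0 - -k = k by ring, show -k - 0 - -k = 0 by ring] at this
      exact this.symm
    · exact hB0 k l (Or.inr hl)
  have hAA : ∀ n m : ℤ, Commute (R.A n) (R.A m) := by
    intro n m
    have h := conj_commute (g := R.T 0 (-n)) (hBB (m - n))
    rw [R.T_B, R.T_B, show (0 : ℤ) - 0 - -n = n by ring, show m - n - 0 - -n = m by ring] at h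
    have h3 := conj_commute (g := R.w⁻¹ * R.c) h
    simp only [B] at h3
    rw [show ∀ g : G, R.w⁻¹ * R.c * (R.c⁻¹ * (R.w * g * R.w⁻¹) * R.c) * (R.w⁻¹ * R.c)⁻¹ = g by intro g; group,
      show ∀ g : G, R.w⁻¹ * R.c * (R.c⁻¹ * (R.w * g * R.w⁻¹) * R.c) * (R.w⁻¹ * R.c)⁻¹ = g by intro g; group,
      Commute.inv_left_iff, Commute.inv_right_iff] at h3
    exact h3
  have e1 : R.A 1 = R.A 0 * R.A 2 := by
    have h := eq_inv_of_mul_eq_one_right hm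
    rw [h, mul_inv_rev, R.A_inv ha, R.A_inv ha, (hAA 1 0).eq, ← mul_assoc, R.A_sq ha, one_mul]
  have e2 : R.A 2 = R.A 1 * R.A 0 := by
    rw [eq_inv_of_mul_eq_one_right hm, mul_inv_rev, R.A_inv ha, R.A_inv ha]
  have eB : R.B 1 = R.B 2 * R.B 0 := by
    simp only [B, e1, mul_inv_rev]
    group
  have hB4 : R.B 4 = R.B 1 := by
    simp only [B]; rw [show (4 : ℤ) = 1 + 3 by norm_num, R.A_period hm]
  have c22 : R.A 2 * R.C 2 * R.A 2 = R.B 1 * R.C 2 := by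
    have h := R.AC_class com0 (n := 2) (m := 2) (l := 0) (by norm_num)
    rwa [R.A_inv ha, show (2 : ℤ) + 2 = 4 by norm_num, hB4] at h
  have c02 : R.A 0 * R.C 2 * R.A 0 = R.B 2 * R.C 2 := by
    have h := R.AC_class com1 (n := 0) (m := 2) (l := -1) (by norm_num)
    rwa [R.A_inv ha, zero_add] at h
  have c12 : R.A 1 * R.C 2 * R.A 1 = R.A 0 * R.B 1 * R.A 0 * (R.B 2 * R.C 2) := by
    calc R.A 1 * R.C 2 * R.A 1 = R.A 0 * R.A 2 * R.C 2 * (R.A 2 * R.A 0) := by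
          rw [← (hAA 0 2).eq, e1]
      _ = R.A 0 * (R.A 2 * R.C 2 * R.A 2) * R.A 0 := by simp only [mul_assoc]
      _ = R.A 0 * R.B 1 * (R.A 0 * R.A 0) * R.C 2 * R.A 0 := by
          rw [c22, R.A_sq ha]; simp only [mul_assoc, one_mul]
      _ = R.A 0 * R.B 1 * R.A 0 * (R.A 0 * R.C 2 * R.A 0) := by simp only [mul_assoc]
      _ = _ := by rw [c02]
  obtain ⟨X, hX⟩ : ∃ X, X = R.B 1 * R.A 0 * R.B 1 := ⟨_, rfl⟩
  have hconj : R.C 2 * (R.A 1 * R.B 0) * (R.C 2)⁻¹ = R.A 2 * X := by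
    calc R.C 2 * (R.A 1 * R.B 0) * (R.C 2)⁻¹
        = R.C 2 * R.A 1 * (R.C 2)⁻¹ * (R.C 2 * R.B 0 * (R.C 2)⁻¹) := by group
      _ = R.C 2 * R.A 1 * (R.C 2)⁻¹ * R.B 0 := by rw [(hCB 2 0).eq, mul_inv_cancel_right]
      _ = R.A 1 * (R.A 1 * R.C 2 * R.A 1) * (R.C 2)⁻¹ * R.B 0 := by
          simp only [← mul_assoc, R.A_sq ha, one_mul]
      _ = R.A 1 * R.A 0 * R.B 1 * R.A 0 * (R.B 2 * R.B 0) := by rw [c12]; group
      _ = R.A 2 * X := by rw [← eB, ← e2, hX]; simp only [mul_assoc]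
  have hX2 : X * X = 1 := by
    rw [hX, show R.B 1 * R.A 0 * R.B 1 * (R.B 1 * R.A 0 * R.B 1) =
      R.B 1 * (R.A 0 * (R.B 1 * R.B 1) * R.A 0) * R.B 1 by group, R.B_sq ha, mul_one, R.A_sq ha, mul_one,
      R.B_sq ha]
  have hA2X : Commute (R.A 2) X := by
    have h1 : Commute (R.A 2) (R.B 1) := R.AB_zero row0 (l := 1) (by norm_num)
    rw [hX]
    exact (h1.mul_right (hAA 2 0)).mul_right h1
  have hsq : R.C 2 * (R.A 1 * R.B 0 * (R.A 1 * R.B 0)) * (R.C 2)⁻¹ = 1 := by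
    calc R.C 2 * (R.A 1 * R.B 0 * (R.A 1 * R.B 0)) * (R.C 2)⁻¹
        = R.C 2 * (R.A 1 * R.B 0) * (R.C 2)⁻¹ * (R.C 2 * (R.A 1 * R.B 0) * (R.C 2)⁻¹) := by group
      _ = R.A 2 * (X * R.A 2) * X := by rw [hconj]; group
      _ = _ := by rw [← hA2X.eq, ← mul_assoc, R.A_sq ha, one_mul, hX2]
  rw [mul_inv_eq_one, mul_eq_left] at hsq
  have := inv_eq_of_mul_eq_one_right hsq
  rw [mul_inv_rev, R.A_inv ha, R.B_inv ha] at this
  exact this.symm

end CfsgLib.Known.SL3Bounded.Core
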