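import Cfsg.Agent.Lib.Known.SL2Bounded.Word
import Cfsg.Agent.Lib.Known.SLn.Transvection

/-!
# Matrices for the short presentation of `SL₃`
-/

set_option autoImplicit false

open Matrix
open CfsgLib.Known.SL2Bounded (cj word wordN)

namespace CfsgLib.Known.SL3Bounded

variable {F : Type*} [Field F]

/-- torus matrix -/
def hMat (ω : Fˣ) : Matrix.SpecialLinearGroup (Fin 3) F := ⟨!![(ω : F), 0, 0; 0, (ω : F)⁻¹, 0; 0, 0, 1], by simp [det_fin_three]⟩
/-- Weyl matrix -/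
def wMat : Matrix.SpecialLinearGroup (Fin 3) F := ⟨!![0, 1, 0; -1, 0, 0; 0, 0, 1], by simp [det_fin_three]⟩
/-- cyclic matrix -/
def cMat : Matrix.SpecialLinearGroup (Fin 3) F := ⟨!![0, 0, 1; 1, 0, 0; 0, 1, 0], by simp [det_fin_three]⟩
/-- inverse cyclic matrix -/
def cMatInv : Matrix.SpecialLinearGroup (Fin 3) F := ⟨!![0, 1, 0; 0, 0, 1; 1, 0, 0], by simp [det_fin_three]⟩
/-- inverse Weyl matrix -/
def wMatInv : Matrix.SpecialLinearGroup (Fin 3) F := ⟨!![0, -1, 0; 1, 0, 0; 0, 0, 1], by simp [det_fin_three]⟩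

/-- root matrix -/
def tm {i j : Fin 3} (hij : i ≠ j) (t : F) : Matrix.SpecialLinearGroup (Fin 3) F := Matrix.SpecialLinearGroup.transvection hij t

theorem coe_hMat (ω : Fˣ) : ((hMat ω : Matrix.SpecialLinearGroup (Fin 3) F) : Matrix (Fin 3) (Fin 3) F) =
    !![(ω : F), 0, 0; 0, (ω : F)⁻¹, 0; 0, 0, 1] := rfl
theorem coe_wMat : ((wMat : Matrix.SpecialLinearGroup (Fin 3) F) : Matrix (Fin 3) (Fin 3) F) = !![0, 1, 0; -1, 0, 0; 0, 0, 1] := rfl
theorem coe_cMat : ((cMat : Matrix.SpecialLinearGroup (Fin 3) F) : Matrix (Fin 3) (Fin 3) F) = !![0, 0, 1; 1, 0, 0; 0, 1, 0] := rfl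
theorem coe_cMatInv : ((cMatInv : Matrix.SpecialLinearGroup (Fin 3) F) : Matrix (Fin 3) (Fin 3) F) = !![0, 1, 0; 0, 0, 1; 1, 0, 0] := rfl
theorem coe_wMatInv : ((wMatInv : Matrix.SpecialLinearGroup (Fin 3) F) : Matrix (Fin 3) (Fin 3) F) = !![0, -1, 0; 1, 0, 0; 0, 0, 1] := rfl
theorem coe_tm {i j : Fin 3} (hij : i ≠ j) (t : F) :
    ((tm hij t : Matrix.SpecialLinearGroup (Fin 3) F) : Matrix (Fin 3) (Fin 3) F) = Matrix.transvection i j t := rfl

theorem sl3_ext {a b : Matrix.SpecialLinearGroup (Fin 3) F}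
    (h : (a : Matrix (Fin 3) (Fin 3) F) = (b : Matrix (Fin 3) (Fin 3) F)) : a = b := Subtype.ext h

theorem cMat_inv : (cMat : Matrix.SpecialLinearGroup (Fin 3) F)⁻¹ = cMatInv := inv_eq_of_mul_eq_one_right (sl3_ext (by
  rw [Matrix.SpecialLinearGroup.coe_mul, coe_cMat, coe_cMatInv, Matrix.SpecialLinearGroup.coe_one]
  ext i j; fin_cases i <;> fin_cases j <;> simp [Matrix.mul_apply, Fin.sum_univ_three]))

theorem wMat_inv : (wMat : Matrix.SpecialLinearGroup (Fin 3) F)⁻¹ = wMatInv := inv_eq_of_mul_eq_one_right (sl3_ext (by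
  rw [Matrix.SpecialLinearGroup.coe_mul, coe_wMat, coe_wMatInv, Matrix.SpecialLinearGroup.coe_one]
  ext i j; fin_cases i <;> fin_cases j <;> simp [Matrix.mul_apply, Fin.sum_univ_three]))

theorem kMat (ω : Fˣ) : ((cMat * hMat ω * cMat⁻¹ : Matrix.SpecialLinearGroup (Fin 3) F) : Matrix (Fin 3) (Fin 3) F) =
    !![1, 0, 0; 0, (ω : F), 0; 0, 0, (ω : F)⁻¹] := by
  simp only [cMat_inv, Matrix.SpecialLinearGroup.coe_mul, coe_cMat, coe_cMatInv, coe_hMat]
  ext i j; fin_cases i <;> fin_cases j <;> simp [Matrix.mul_apply, Fin.sum_univ_three]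

theorem k2Mat (ω : Fˣ) : ((cMat⁻¹ * hMat ω * cMat : Matrix.SpecialLinearGroup (Fin 3) F) : Matrix (Fin 3) (Fin 3) F) =
    !![(ω : F)⁻¹, 0, 0; 0, 1, 0; 0, 0, (ω : F)] := by
  simp only [cMat_inv, Matrix.SpecialLinearGroup.coe_mul, coe_cMat, coe_cMatInv, coe_hMat]
  ext i j; fin_cases i <;> fin_cases j <;> simp [Matrix.mul_apply, Fin.sum_univ_three]

theorem k_tm (ω : Fˣ) (t : F) : cMat * hMat ω * cMat⁻¹ * tm (i := 0) (j := 1) (by decide) t =
    tm (i := 0) (j := 1) (by decide) ((ω : F)⁻¹ * t) * (cMat * hMat ω * cMat⁻¹) := by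
  have e := kMat ω
  generalize (cMat * hMat ω * cMat⁻¹ : Matrix.SpecialLinearGroup (Fin 3) F) = K at e ⊢
  refine sl3_ext ?_
  rw [Matrix.SpecialLinearGroup.coe_mul, Matrix.SpecialLinearGroup.coe_mul, e, coe_tm, coe_tm]
  ext i j
  fin_cases i <;> fin_cases j <;>
    simp [Matrix.mul_apply, Fin.sum_univ_three, Matrix.transvection, Matrix.single, mul_comm]
  try field_simp

theorem w_tm (t : F) : wMat * tm (i := 0) (j := 1) (by decide) t =
    tm (i := 1) (j := 0) (by decide) (-t) * (wMat : Matrix.SpecialLinearGroup (Fin 3) F) := by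
  refine sl3_ext ?_
  rw [Matrix.SpecialLinearGroup.coe_mul, Matrix.SpecialLinearGroup.coe_mul, coe_wMat, coe_tm, coe_tm]
  ext i j
  fin_cases i <;> fin_cases j <;> simp [Matrix.mul_apply, Fin.sum_univ_three, Matrix.transvection, Matrix.single]

theorem c_tm01 (t : F) : cMat * tm (i := 0) (j := 1) (by decide) t =
    tm (i := 1) (j := 2) (by decide) t * (cMat : Matrix.SpecialLinearGroup (Fin 3) F) := by
  refine sl3_ext ?_
  rw [Matrix.SpecialLinearGroup.coe_mul, Matrix.SpecialLinearGroup.coe_mul, coe_cMat, coe_tm, coe_tm]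
  ext i j
  fin_cases i <;> fin_cases j <;> simp [Matrix.mul_apply, Fin.sum_univ_three, Matrix.transvection, Matrix.single]

theorem c_tm10 (t : F) : cMat * tm (i := 1) (j := 0) (by decide) t =
    tm (i := 2) (j := 1) (by decide) t * (cMat : Matrix.SpecialLinearGroup (Fin 3) F) := by
  refine sl3_ext ?_
  rw [Matrix.SpecialLinearGroup.coe_mul, Matrix.SpecialLinearGroup.coe_mul, coe_cMat, coe_tm, coe_tm]
  ext i j
  fin_cases i <;> fin_cases j <;> simp [Matrix.mul_apply, Fin.sum_univ_three, Matrix.transvection, Matrix.single]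

theorem c_tm02 (t : F) : cMat * tm (i := 0) (j := 2) (by decide) t =
    tm (i := 1) (j := 0) (by decide) t * (cMat : Matrix.SpecialLinearGroup (Fin 3) F) := by
  refine sl3_ext ?_
  rw [Matrix.SpecialLinearGroup.coe_mul, Matrix.SpecialLinearGroup.coe_mul, coe_cMat, coe_tm, coe_tm]
  ext i j
  fin_cases i <;> fin_cases j <;> simp [Matrix.mul_apply, Fin.sum_univ_three, Matrix.transvection, Matrix.single]

theorem rel_c3 : (cMat * cMat * cMat : Matrix.SpecialLinearGroup (Fin 3) F) = 1 := by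
  refine sl3_ext ?_
  simp only [Matrix.SpecialLinearGroup.coe_mul, coe_cMat, Matrix.SpecialLinearGroup.coe_one]
  ext i j; fin_cases i <;> fin_cases j <;> simp [Matrix.mul_apply, Fin.sum_univ_three]

theorem rel_swap : (cMat * wMat⁻¹ * cMat * wMat⁻¹ : Matrix.SpecialLinearGroup (Fin 3) F) = 1 := by
  refine sl3_ext ?_
  simp only [wMat_inv, Matrix.SpecialLinearGroup.coe_mul, coe_cMat, coe_wMatInv, Matrix.SpecialLinearGroup.coe_one]
  ext i j; fin_cases i <;> fin_cases j <;> simp [Matrix.mul_apply, Fin.sum_univ_three]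

theorem rel_prod (ω : Fˣ) : hMat ω * (cMat * hMat ω * cMat⁻¹) * (cMat⁻¹ * hMat ω * cMat) = (1 : Matrix.SpecialLinearGroup (Fin 3) F) := by
  refine sl3_ext ?_
  rw [Matrix.SpecialLinearGroup.coe_mul, Matrix.SpecialLinearGroup.coe_mul, kMat, k2Mat, coe_hMat, Matrix.SpecialLinearGroup.coe_one]
  ext i j; fin_cases i <;> fin_cases j <;> simp [Matrix.mul_apply, Fin.sum_univ_three]

theorem rel_T (ω : Fˣ) : Commute (hMat ω : Matrix.SpecialLinearGroup (Fin 3) F) (cMat * hMat ω * cMat⁻¹) := by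
  have e := kMat ω
  generalize (cMat * hMat ω * cMat⁻¹ : Matrix.SpecialLinearGroup (Fin 3) F) = K at e ⊢
  refine sl3_ext ?_
  rw [Matrix.SpecialLinearGroup.coe_mul, Matrix.SpecialLinearGroup.coe_mul, e, coe_hMat]
  ext i j; fin_cases i <;> fin_cases j <;> simp [Matrix.mul_apply, Fin.sum_univ_three, mul_comm]

theorem rel_inv (ω : Fˣ) : (wMat * hMat ω * wMat⁻¹ * hMat ω : Matrix.SpecialLinearGroup (Fin 3) F) = 1 := by
  refine sl3_ext ?_
  simp only [wMat_inv, Matrix.SpecialLinearGroup.coe_mul, coe_wMat, coe_wMatInv, coe_hMat, Matrix.SpecialLinearGroup.coe_one]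
  ext i j; fin_cases i <;> fin_cases j <;> simp [Matrix.mul_apply, Fin.sum_univ_three]

theorem rel_z (ω : Fˣ) : Commute (hMat ω * (cMat * hMat ω * cMat⁻¹) ^ 2 : Matrix.SpecialLinearGroup (Fin 3) F)
    (tm (i := 0) (j := 1) (by decide) 1) := by
  refine sl3_ext ?_
  rw [pow_two]
  simp only [Matrix.SpecialLinearGroup.coe_mul, coe_hMat, coe_tm, cMat_inv, coe_cMat, coe_cMatInv]
  ext i j
  fin_cases i <;> fin_cases j <;> simp [Matrix.mul_apply, Fin.sum_univ_three, Matrix.transvection, Matrix.single]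
  all_goals field_simp

theorem rel_weyl {t : F} (ht : t ≠ 0) :
    ((tm (i := 0) (j := 1) (by decide) t * tm (i := 1) (j := 0) (by decide) (-t⁻¹) *
      tm (i := 0) (j := 1) (by decide) t : Matrix.SpecialLinearGroup (Fin 3) F) : Matrix (Fin 3) (Fin 3) F) = !![0, t, 0; -t⁻¹, 0, 0; 0, 0, 1] := by
  simp only [Matrix.SpecialLinearGroup.coe_mul, coe_tm]
  ext i j
  fin_cases i <;> fin_cases j <;>
    simp [Matrix.mul_apply, Fin.sum_univ_three, Matrix.transvection, Matrix.single, ht]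

end CfsgLib.Known.SL3Bounded
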