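import Cfsg.Agent.Lib.Known.SL3Bounded.Roots
import Cfsg.Agent.Lib.Known.SL3Bounded.Mat
import Cfsg.Agent.Lib.Known.SL3Bounded.Four
import Cfsg.Agent.Lib.Known.SLn.Faithful
import Cfsg.Agent.Lib.Classical.SLGroup

/-!
# A presentation of `SL₃` with four generators and thirteen relators
-/

set_option autoImplicit false

open Polynomial
open scoped commutatorElement
open CfsgLib.Known.SL2Bounded (cj word map_cj map_word)

namespace CfsgLib.Known.SL3Bounded

/-- first free generator -/
def ga : FreeGroup (Fin 4) := FreeGroup.of 0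
/-- second free generator -/
def gh : FreeGroup (Fin 4) := FreeGroup.of 1
/-- third free generator -/
def gw : FreeGroup (Fin 4) := FreeGroup.of 2
/-- fourth free generator -/
def gc : FreeGroup (Fin 4) := FreeGroup.of 3
/-- second torus word -/
def gk : FreeGroup (Fin 4) := gc * gh * gc⁻¹

theorem ne01 : (0 : Fin 3) ≠ 1 := by decide

section exponents

variable {F : Type*} [Field F] [Finite F] {p : ℕ} [Fact p.Prime] [Algebra (ZMod p) F] {z : F}

theorem rep_exists (hgen : ∀ u : F, u = 0 ∨ ∃ n : ℕ, u = z ^ n) (u : F) :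
    ∃ P : (ZMod p)[X], aeval z P = u := by
  rcases hgen u with rfl | ⟨n, rfl⟩
  · exact ⟨0, map_zero _⟩
  · exact ⟨X ^ n, by simp⟩

theorem cube_or_four {zu : Fˣ} (hz : z = (zu : F)) (hcyc : ∀ x : Fˣ, x ∈ Subgroup.zpowers zu) :
    (∃ Q : (ZMod p)[X], aeval (z ^ 3) Q = z) ∨ (p = 2 ∧ (minpoly (ZMod p) z).natDegree = 2) := by
  by_contra hne
  rw [not_or] at hne
  obtain ⟨hnQ, hne⟩ := hne
  refine hne ?_
  let R : Subalgebra (ZMod p) F := (aeval (R := ZMod p) (z ^ 3)).range
  let E : IntermediateField (ZMod p) F := R.toIntermediateField' (Finite.isField_of_domain _)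
  have hzE : z ∉ E := fun h => hnQ h
  have h3E : z ^ 3 ∈ E := ⟨X, aeval_X _⟩
  letI : Fintype E := Fintype.ofFinite E
  let _ : Fintype F := Fintype.ofFinite F
  obtain ⟨q0, hq0⟩ : ∃ q, q = Fintype.card E := ⟨_, rfl⟩
  have hz0 : z ≠ 0 := hz ▸ zu.ne_zero
  have hpow : z ^ (3 * (q0 - 1)) = 1 := by
    have := congrArg Subtype.val (FiniteField.pow_card_sub_one_eq_one (⟨z ^ 3, h3E⟩ : E)
      (fun e => pow_ne_zero 3 hz0 (congrArg Subtype.val e)))
    rw [← hq0] at this
    rw [pow_mul]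
    simpa using this
  have hord : (Fintype.card F - 1) ∣ 3 * (q0 - 1) := by
    classical
    rw [← Fintype.card_units, ← Nat.card_eq_fintype_card, ← orderOf_eq_card_of_forall_mem_zpowers hcyc]
    refine orderOf_dvd_of_pow_eq_one (Units.ext ?_)
    rw [Units.val_pow_eq_pow_val, ← hz, hpow, Units.val_one]
  have hq1 : 1 < q0 := hq0 ▸ Fintype.one_lt_card
  have hsq : q0 * q0 ≤ Fintype.card F := by
    rw [hq0, ← Fintype.card_prod]
    refine Fintype.card_le_of_injective (fun ab : E × E => (ab.1 : F) + ab.2 * z) fun a b e => ?_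
    by_cases h : (a.2 : F) = b.2
    · refine Prod.ext (Subtype.ext ?_) (Subtype.ext h)
      simpa [h] using e
    · refine absurd ?_ hzE
      have : z = ((a.1 : F) - b.1) / ((b.2 : F) - a.2) := by
        rw [eq_div_iff (sub_ne_zero.2 (Ne.symm h))]; linear_combination (norm := ring) -e
      rw [this]
      exact div_mem (sub_mem a.1.2 b.1.2) (sub_mem b.2.2 a.2.2)
  have hle := Nat.le_of_dvd (by omega) hord
  have hle' : Fintype.card F + 2 ≤ 3 * q0 := by omega
  have hq2 : q0 = 2 := by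
    by_contra h
    nlinarith [Nat.mul_le_mul_right q0 (show 3 ≤ q0 by omega)]
  have hF : Fintype.card F = 4 := by subst hq2; omega
  obtain ⟨d, hd⟩ : ∃ d, d = Module.finrank (ZMod p) F := ⟨_, rfl⟩
  have hpd : p ^ d = 4 := by
    rw [hd, ← hF, ← Nat.card_eq_fintype_card, Module.natCard_eq_pow_finrank (K := ZMod p), Nat.card_zmod]
  have hp : p = 2 := by
    have h4 : p ∣ 2 ^ 2 := by
      rcases d with _ | d
      · simp at hpd
      · exact Dvd.intro_left (p ^ d) ((pow_succ p d).symm.trans hpd)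
    exact (Nat.prime_dvd_prime_iff_eq Fact.out Nat.prime_two).1 ((Fact.out : p.Prime).dvd_of_dvd_pow h4)
  refine ⟨hp, le_antisymm ?_ ?_⟩
  · refine (minpoly.natDegree_le z).trans (le_of_eq ?_)
    rw [← hd]
    subst hp
    exact (Nat.pow_right_injective le_rfl) (hpd.trans (by norm_num : (4 : ℕ) = 2 ^ 2))
  · have hint : IsIntegral (ZMod p) z := IsIntegral.of_finite _ _
    rcases Nat.lt_or_ge (minpoly (ZMod p) z).natDegree 2 with h | h
    · obtain ⟨c, hc⟩ := minpoly.natDegree_eq_one_iff.1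
        (le_antisymm (Nat.lt_succ_iff.1 h) (minpoly.natDegree_pos hint))
      exact absurd (hc ▸ E.algebraMap_mem c) hzE
    · exact h

end exponents

section span

variable {G : Type*} [Group G] {a k : G}

theorem mem_shift {S : Finset ℕ} {g : G}
    (hg : g ∈ Subgroup.closure {g | ∃ i : ℤ, ∃ s ∈ S, g = cj a k (3 * i + s)}) (i : ℤ) :
    k ^ (3 * i) * g * (k ^ (3 * i))⁻¹ ∈ Subgroup.closure {g | ∃ i : ℤ, ∃ s ∈ S, g = cj a k (3 * i + s)} :=
  SL2Bounded.conj_closure_mem (by
    rintro _ ⟨j, s, hs, rfl⟩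
    rw [SL2Bounded.conj_cj]
    exact Subgroup.subset_closure ⟨i + j, s, hs, by congr 1; ring⟩) g hg

theorem span_of_residues {S : Finset ℕ}
    (h : ∀ r : ℕ, r < 3 → cj a k r ∈ Subgroup.closure {g | ∃ i : ℤ, ∃ s ∈ S, g = cj a k (3 * i + s)}) (n : ℤ) :
    cj a k n ∈ Subgroup.closure {g | ∃ i : ℤ, ∃ s ∈ S, g = cj a k (3 * i + s)} := by
  have h3 : (0 : ℤ) ≤ n % 3 ∧ n % 3 < 3 := ⟨Int.emod_nonneg n (by norm_num), Int.emod_lt_of_pos n (by norm_num)⟩
  have := mem_shift (h (n % 3).toNat (by omega)) (n / 3)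
  rwa [SL2Bounded.conj_cj, show 3 * (n / 3) + ((n % 3).toNat : ℤ) = n by omega] at this

end span

variable {F : Type*} [Field F] {p : ℕ} [Fact p.Prime] [Algebra (ZMod p) F]

/-- images of the generators -/
def gens (ω : Fˣ) : Fin 4 → Matrix.SpecialLinearGroup (Fin 3) F :=
  ![tm ne01 1, hMat ω, wMat, cMat]

/-- evaluation of words -/
def ev (ω : Fˣ) : FreeGroup (Fin 4) →* Matrix.SpecialLinearGroup (Fin 3) F := FreeGroup.lift (gens ω)

theorem ev_ga (ω : Fˣ) : ev ω ga = tm ne01 1 := FreeGroup.lift_apply_of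
theorem ev_gh (ω : Fˣ) : ev ω gh = hMat ω := FreeGroup.lift_apply_of
theorem ev_gw (ω : Fˣ) : ev ω gw = wMat := FreeGroup.lift_apply_of
theorem ev_gc (ω : Fˣ) : ev ω gc = cMat := FreeGroup.lift_apply_of
theorem ev_gk (ω : Fˣ) : ev ω gk = cMat * hMat ω * cMat⁻¹ := by
  simp only [gk, map_mul, map_inv, ev_gh, ev_gc]

/-- a word evaluated along an additive family -/
theorem word_eval {H : Type*} [Group H] (X' : F → H) (hadd : ∀ s t, X' s * X' t = X' (s + t)) {k : H} {z : F}
    (hk : ∀ t, k * X' t = X' (z * t) * k) (P : (ZMod p)[X]) : word (X' 1) k P = X' (aeval z P) := by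
  have h0 : X' 0 = 1 := by have := hadd 0 0; rw [add_zero] at this; exact mul_eq_left.1 this
  have hp : ∀ (t : F) (n : ℕ), X' t ^ n = X' (n * t) := fun t n => by
    induction n with
    | zero => simp [h0]
    | succ n ih => rw [pow_succ, ih, hadd]; congr 1; push_cast; ring
  have hc : ∀ n : ℕ, cj (X' 1) k n = X' (z ^ n) := fun n => by
    induction n with
    | zero => simp [SL2Bounded.cj_zero]
    | succ n ih =>
      rw [Nat.cast_succ, add_comm, ← SL2Bounded.conj_cj, ih, zpow_one, hk, mul_inv_cancel_right, pow_succ']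
  rw [aeval_eq_sum_range, word]
  induction P.natDegree + 1 with
  | zero => simp [SL2Bounded.wordN, h0]
  | succ N ih =>
    rw [SL2Bounded.wordN, ih, hc, hp, hadd, Finset.sum_range_succ]
    congr 2
    rw [Algebra.smul_def]
    conv_rhs => rw [← ZMod.natCast_zmod_val (P.coeff N), map_natCast]

theorem tm_add {i j : Fin 3} (hij : i ≠ j) (s t : F) : tm hij s * tm hij t = tm hij (s + t) := SLn.tr_add hij s t

theorem k_pow_tm (ω : Fˣ) (n : ℕ) : cj (tm ne01 1) (cMat * hMat ω * cMat⁻¹) n =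
    tm ne01 (((ω : F)⁻¹) ^ n) := by
  induction n with
  | zero => simp [SL2Bounded.cj_zero]
  | succ n ih =>
    rw [Nat.cast_succ, add_comm, ← SL2Bounded.conj_cj, ih, zpow_one, k_tm, mul_inv_cancel_right, pow_succ']

theorem ev_A (ω : Fˣ) (n : ℕ) :
    ev ω (cj ga gk n) = tm ne01 (((ω : F)⁻¹) ^ n) := by
  rw [map_cj, ev_ga, ev_gk, k_pow_tm]

theorem w_root (t : F) : wMat * (tm ne01 t)⁻¹ * (wMat : Matrix.SpecialLinearGroup (Fin 3) F)⁻¹ =
    tm (i := 1) (j := 0) (by decide) t := by
  rw [tm, Matrix.SpecialLinearGroup.transvection_inv, ← tm, w_tm, neg_neg, mul_inv_cancel_right]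

theorem b_root (t : F) :
    (cMat : Matrix.SpecialLinearGroup (Fin 3) F)⁻¹ * tm (i := 1) (j := 0) (by decide) t * cMat =
      tm (i := 0) (j := 2) (by decide) t := by
  rw [mul_assoc, inv_mul_eq_iff_eq_mul, c_tm02]

/-- the three relators at exponent `s` -/
def sRels (s : ℕ) : List (FreeGroup (Fin 4)) :=
  [cj ga gk s * (gc⁻¹ * (gw * ga⁻¹ * gw⁻¹) * gc) * (cj ga gk s)⁻¹ * (gc⁻¹ * (gw * ga⁻¹ * gw⁻¹) * gc)⁻¹,
   cj ga gk s * (gc * (gw * ga⁻¹ * gw⁻¹) * gc⁻¹) * (cj ga gk s)⁻¹ * (gc * (gw * ga⁻¹ * gw⁻¹) * gc⁻¹)⁻¹,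
   cj ga gk s * (gc * ga * gc⁻¹) * (cj ga gk s)⁻¹ *
    (gc⁻¹ * (gw * (cj ga gk s)⁻¹ * gw⁻¹) * gc * (gc * ga * gc⁻¹))⁻¹]

theorem ev_sRels (ω : Fˣ) (s : ℕ) : ∀ r ∈ sRels s, ev ω r = 1 := by
  intro r hr
  have hB : ev ω (gc⁻¹ * (gw * ga⁻¹ * gw⁻¹) * gc) = tm (i := 0) (j := 2) (by decide) 1 := by
    simp only [map_mul, map_inv, ev_ga, ev_gw, ev_gc, w_root, b_root]
  have hD : ev ω (gc * (gw * ga⁻¹ * gw⁻¹) * gc⁻¹) = tm (i := 2) (j := 1) (by decide) 1 := by
    simp only [map_mul, map_inv, ev_ga, ev_gw, ev_gc, w_root]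
    rw [c_tm10, mul_inv_cancel_right]
  have hC : ev ω (gc * ga * gc⁻¹) = tm (i := 1) (j := 2) (by decide) 1 := by
    simp only [map_mul, map_inv, ev_ga, ev_gc]
    rw [c_tm01, mul_inv_cancel_right]
  simp only [sRels, List.mem_cons, List.not_mem_nil, or_false] at hr
  rcases hr with rfl | rfl | rfl
  · rw [map_mul, map_mul, map_mul, map_inv, map_inv, hB, ev_A, ← commutatorElement_def,
      commutatorElement_eq_one_iff_commute]
    exact SLn.tr_triv _ _ (by decide) (by decide) _ _
  · rw [map_mul, map_mul, map_mul, map_inv, map_inv, hD, ev_A, ← commutatorElement_def,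
      commutatorElement_eq_one_iff_commute]
    exact SLn.tr_triv _ _ (by decide) (by decide) _ _
  · have hBs : ev ω (gc⁻¹ * (gw * (cj ga gk s)⁻¹ * gw⁻¹) * gc) =
        tm (i := 0) (j := 2) (by decide) (((ω : F)⁻¹) ^ s) := by
      simp only [map_mul, map_inv, ev_A, ev_gw, ev_gc, w_root, b_root]
    rw [map_mul, map_inv, map_mul (ev ω) (gc⁻¹ * _ * gc), hBs, map_mul, map_mul, map_inv, hC, ev_A, mul_inv_eq_one]
    have e := SLn.tr_comm (i := (0 : Fin 3)) (j := 1) (l := 2) (by decide) (by decide) (by decide)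
      (((ω : F)⁻¹) ^ s) (1 : F)
    rw [commutatorElement_def, mul_one, mul_inv_eq_iff_eq_mul] at e
    exact e

theorem sRels_facts {G : Type} [Group G] (π : FreeGroup (Fin 4) →* G) {s : ℕ} (h : ∀ r ∈ sRels s, π r = 1) :
    Commute (cj (π ga) (π gk) s) ((π gc)⁻¹ * (π gw * (π ga)⁻¹ * (π gw)⁻¹) * π gc) ∧
      Commute (cj (π ga) (π gk) s) (π gc * (π gw * (π ga)⁻¹ * (π gw)⁻¹) * (π gc)⁻¹) ∧
      cj (π ga) (π gk) s * (π gc * π ga * (π gc)⁻¹) * (cj (π ga) (π gk) s)⁻¹ =
        (π gc)⁻¹ * (π gw * (cj (π ga) (π gk) s)⁻¹ * (π gw)⁻¹) * π gc * (π gc * π ga * (π gc)⁻¹) := by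
  simp only [sRels, List.mem_cons, List.not_mem_nil, or_false, forall_eq_or_imp, forall_eq] at h
  simp only [map_mul, map_inv, map_cj] at h
  obtain ⟨h1, h2, h3⟩ := h
  refine ⟨?_, ?_, mul_inv_eq_one.1 h3⟩
  · rw [mul_inv_eq_one, mul_inv_eq_iff_eq_mul] at h1; exact h1
  · rw [mul_inv_eq_one, mul_inv_eq_iff_eq_mul] at h2; exact h2

/-- the minimal polynomial of a generator of the field with four elements gives the short word -/
theorem word_quad [Finite F] {z : F} (hp : p = 2) (hdeg : (minpoly (ZMod p) z).natDegree = 2)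
    {G : Type*} [Group G] (a k : G) : word a k (minpoly (ZMod p) z) = cj a k 0 * cj a k 1 * cj a k 2 := by
  subst hp
  have hint : IsIntegral (ZMod 2) z := IsIntegral.of_finite _ _
  have h2 := (minpoly.monic hint).coeff_natDegree
  rw [hdeg] at h2
  have two : ∀ c : ZMod 2, c = 0 ∨ c = 1 := fun c => by
    fin_cases c <;> first | exact Or.inl rfl | exact Or.inr rfl
  have hz : z ≠ 0 := by
    intro h
    rw [h, minpoly.zero] at hdeg
    simp at hdeg
  have h0 : (minpoly (ZMod 2) z).coeff 0 = 1 :=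
    (two _).resolve_left (minpoly.coeff_zero_ne_zero hint hz)
  have h1 : (minpoly (ZMod 2) z).coeff 1 = 1 := by
    refine (two _).resolve_left fun h => ?_
    have e := minpoly.aeval (ZMod 2) z
    rw [aeval_eq_sum_range, hdeg] at e
    simp only [Finset.sum_range_succ, Finset.sum_range_zero, h, h0, h2, one_smul, zero_smul, add_zero, zero_add,
      pow_zero] at e
    haveI : CharP F 2 := charP_of_injective_algebraMap (algebraMap (ZMod 2) F).injective 2
    have hz1 : z = 1 := by
      have h' : (z + 1) ^ 2 = 0 := by rw [CharTwo.add_sq, one_pow, add_comm]; exact e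
      exact CharTwo.add_eq_zero.1 (pow_eq_zero_iff two_ne_zero |>.1 h')
    rw [hz1, minpoly.one, ← map_one C, natDegree_X_sub_C] at hdeg
    omega
  simp [word, hdeg, SL2Bounded.wordN, h0, h1, h2, ZMod.val_one]

/-- the Weyl element inverts the torus element in even characteristic -/
theorem inv_of_two {G : Type*} [Group G] {a h w k : G} (ha : a * a = 1) (r7 : a * (w * a * w⁻¹) * a = w)
    (r8 : cj a k (-1) * (w * cj a k 1 * w⁻¹) * cj a k (-1) = h * w) : w * h * w⁻¹ = h⁻¹ := by
  have key : ∀ x y z : G, x * x = 1 → y * y = 1 → x * y * x = z → z * z = 1 := by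
    rintro x y z hx hy rfl
    calc x * y * x * (x * y * x) = x * (y * (x * x) * y) * x := by group
      _ = 1 := by rw [hx, mul_one, hy, mul_one, hx]
  have conj_sq : ∀ g y : G, y * y = 1 → g * y * g⁻¹ * (g * y * g⁻¹) = 1 := fun g y e => by
    rw [show g * y * g⁻¹ * (g * y * g⁻¹) = g * (y * y) * g⁻¹ by group, e, mul_one, mul_inv_cancel]
  have hww := key _ _ _ ha (conj_sq w _ ha) r7
  have hA : ∀ n : ℤ, cj a k n * cj a k n = 1 := fun n => conj_sq _ _ ha
  have hhw := key _ _ _ (hA (-1)) (conj_sq w _ (hA 1)) r8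
  rw [inv_eq_of_mul_eq_one_right hww, eq_inv_iff_mul_eq_one]
  calc w * h * w * h = w * (h * w * (h * w)) * w⁻¹ := by group
    _ = 1 := by rw [hhw, mul_one, mul_inv_cancel]

/-- the relators which depend on the residues of the exponents modulo three -/
theorem exists_extra [Finite F] {ω : Fˣ} (hcyc : ∀ x : Fˣ, x ∈ Subgroup.zpowers ω) :
    ∃ X : List (FreeGroup (Fin 4)), X.length + (if p = 2 then 0 else 1) ≤ 5 ∧ (∀ r ∈ X, ev ω r = 1) ∧
      (∀ r ∈ sRels 0, r ∈ X) ∧
      ∀ (G : Type) [Group G] (π : FreeGroup (Fin 4) →* G),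
        word (π ga) (π gk) (minpoly (ZMod p) ((ω⁻¹ : Fˣ) : F)) = 1 → (∀ r ∈ X, π r = 1) →
        (p = 2 → ∃ R : Core G, R.a = π ga ∧ R.h = π gh ∧ R.w = π gw ∧ R.c = π gc ∧ R.a * R.a = 1) →
        ∃ S : Finset ℕ, 0 ∈ S ∧
          (∀ n : ℤ, cj (π ga) (π gk) n ∈
            Subgroup.closure {g | ∃ i : ℤ, ∃ s ∈ S, g = cj (π ga) (π gk) (3 * i + s)}) ∧
          ∀ s ∈ S, ∀ r ∈ sRels s, π r = 1 := by
  have hcyc' : ∀ x : Fˣ, x ∈ Subgroup.zpowers ω⁻¹ := fun x => by rw [Subgroup.zpowers_inv]; exact hcyc x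
  rcases cube_or_four (p := p) (z := ((ω⁻¹ : Fˣ) : F)) rfl hcyc' with ⟨Q, hQ⟩ | ⟨hp, hdeg⟩
  · refine ⟨(cj ga gk ((1 : ℕ) : ℤ))⁻¹ * word ga (gk ^ 3) Q :: sRels 0, ?_, ?_,
      fun r hr => List.mem_cons_of_mem _ hr, fun G _ π _ hX _ => ?_⟩
    · simp only [sRels, List.length_cons, List.length_nil]; split <;> omega
    · intro r hr
      rcases List.mem_cons.1 hr with rfl | hr
      · rw [map_mul, map_inv, ev_A, map_word, ev_ga, map_pow, ev_gk]
        rw [word_eval (fun t => tm ne01 t) (tm_add _) (z := ((ω : F)⁻¹) ^ 3)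
          (fun t => ?_)]
        · rw [Units.val_inv_eq_inv_val] at hQ
          rw [hQ, pow_one, inv_mul_cancel]
        · obtain ⟨K, hK⟩ : ∃ K, K = cMat * hMat ω * cMat⁻¹ := ⟨_, rfl⟩
          rw [← hK]
          have hk : ∀ t, K * tm ne01 t =
              tm ne01 ((ω : F)⁻¹ * t) * K := fun t => hK ▸ k_tm ω t
          show K ^ 3 * tm _ t = tm _ _ * K ^ 3
          have e3 : ∀ t, K * (K * (K * tm ne01 t)) =
              tm ne01 ((ω : F)⁻¹ * ((ω : F)⁻¹ * ((ω : F)⁻¹ * t))) * (K * (K * K)) := fun t => by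
            calc K * (K * (K * tm ne01 t)) = K * (K * tm ne01 ((ω : F)⁻¹ * t)) * K := by rw [hk]; group
              _ = (K * tm ne01 ((ω : F)⁻¹ * ((ω : F)⁻¹ * t))) * K * K := by rw [hk]; group
              _ = _ := by rw [hk]; group
          calc K ^ 3 * tm ne01 t = K * (K * (K * tm ne01 t)) := by rw [pow_three]; group
            _ = _ := by rw [e3, pow_three K]; congr 2; ring
      · exact ev_sRels ω 0 r hr
    · refine ⟨{0}, Finset.mem_singleton_self 0, ?_, fun s hs r hr => ?_⟩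
      · have h1 := hX _ List.mem_cons_self
        rw [map_mul, map_inv, map_cj, map_word, map_pow, inv_mul_eq_one] at h1
        obtain ⟨V, hV⟩ : ∃ V, V = Subgroup.closure
            {g | ∃ i : ℤ, ∃ s ∈ ({0} : Finset ℕ), g = cj (π ga) (π gk) (3 * i + s)} := ⟨_, rfl⟩
        rw [← hV]
        have h3 : ∀ j : ℤ, cj (π ga) (π gk) (3 * j) ∈ V := fun j => hV ▸ Subgroup.subset_closure
          ⟨j, 0, Finset.mem_singleton_self 0, by simp⟩
        have hone : cj (π ga) (π gk) ((1 : ℕ) : ℤ) ∈ V := by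
          rw [h1]
          refine SL2Bounded.word_mem (fun m => ?_) Q
          rw [← zpow_natCast (π gk) 3, SL2Bounded.cj_pow]
          exact h3 m
        have hnext : ∀ g ∈ V, π gk * g * (π gk)⁻¹ ∈ V := by
          intro g hg
          conv at hg => rw [hV]
          refine SL2Bounded.conj_closure_mem ?_ g hg
          rintro _ ⟨j, s, hs, rfl⟩
          rw [Finset.mem_singleton.1 hs, Nat.cast_zero, add_zero]
          have := mem_shift (hV ▸ hone) j
          rw [← hV, SL2Bounded.conj_cj] at this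
          rw [Nat.cast_one, add_comm, ← SL2Bounded.conj_cj, zpow_one] at this
          exact this
        intro n
        rw [hV]
        refine span_of_residues (S := ({0} : Finset ℕ)) (fun r hr => ?_) n
        show _ ∈ Subgroup.closure {g | ∃ i : ℤ, ∃ s ∈ ({0} : Finset ℕ), g = cj (π ga) (π gk) (3 * i + s)}
        rw [← hV]
        obtain rfl | rfl | rfl : r = 0 ∨ r = 1 ∨ r = 2 := by omega
        · simpa using h3 0
        · exact hone
        · rw [show ((2 : ℕ) : ℤ) = 1 + ((1 : ℕ) : ℤ) by norm_num, ← SL2Bounded.conj_cj, zpow_one]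
          exact hnext _ hone
      · rw [Finset.mem_singleton.1 hs] at hr
        exact hX r (List.mem_cons_of_mem _ hr)
  · refine ⟨sRels 0 ++ (sRels 1).tail, ?_, ?_, fun r hr => List.mem_append_left _ hr,
      fun G _ π hm hX hcore => ?_⟩
    · simp only [sRels, List.tail_cons, List.length_append, List.length_cons, List.length_nil, if_pos hp]; omega
    · intro r hr
      rcases List.mem_append.1 hr with hr | hr
      exacts [ev_sRels ω 0 r hr, ev_sRels ω 1 r (List.mem_of_mem_tail hr)]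
    · refine ⟨{0, 1}, by simp, ?_, fun s hs r hr => ?_⟩
      · intro n
        refine span_of_residues (S := ({0, 1} : Finset ℕ)) (fun r hr => ?_) n
        obtain rfl | rfl | rfl : r = 0 ∨ r = 1 ∨ r = 2 := by omega
        · exact Subgroup.subset_closure ⟨0, 0, by simp, by simp⟩
        · exact Subgroup.subset_closure ⟨0, 1, by simp, by simp⟩
        · have hmon := minpoly.monic (IsIntegral.of_finite (ZMod p) ((ω⁻¹ : Fˣ) : F))
          have htop := hmon.coeff_natDegree
          rw [hdeg] at htop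
          simp only [word, hdeg] at hm
          simp only [SL2Bounded.wordN, htop, ZMod.val_one, pow_one, one_mul, Nat.cast_zero, Nat.cast_one,
            Nat.cast_ofNat, SL2Bounded.cj_zero] at hm
          rw [Nat.cast_ofNat, eq_inv_of_mul_eq_one_right hm]
          refine inv_mem (mul_mem (pow_mem ?_ _) (pow_mem ?_ _))
          · exact Subgroup.subset_closure ⟨0, 0, by simp, by simp [SL2Bounded.cj_zero]⟩
          · exact Subgroup.subset_closure ⟨0, 1, by simp, by simp⟩
      · rcases Finset.mem_insert.1 hs with rfl | hs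
        · exact hX r (List.mem_append_left _ hr)
        · rw [Finset.mem_singleton.1 hs] at hr
          rw [sRels] at hr
          rcases List.mem_cons.1 hr with rfl | hr
          swap
          · exact hX r (List.mem_append_right _ hr)
          obtain ⟨R, eRa, eRh, eRw, eRc, hR2⟩ := hcore hp
          have hk : R.k = π gk := by simp only [Core.k, gk, map_mul, map_inv, eRc, eRh]
          obtain ⟨row0, col0, com0⟩ := sRels_facts π (s := 0) fun r hr => hX r (List.mem_append_left _ hr)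
          have hcol := hX _ (List.mem_append_right (sRels 0) (List.mem_cons_self : _ ∈ (sRels 1).tail))
          have hcom := hX _ (List.mem_append_right (sRels 0)
            (List.mem_cons_of_mem _ List.mem_cons_self : _ ∈ (sRels 1).tail))
          have hA : ∀ n, R.A n = cj (π ga) (π gk) n := fun n => by rw [Core.A, eRa, hk]
          have hB : R.B 0 = (π gc)⁻¹ * (π gw * (π ga)⁻¹ * (π gw)⁻¹) * π gc := by rw [R.B_zero, eRa, eRw, eRc]
          have hC : R.C 0 = π gc * π ga * (π gc)⁻¹ := by rw [R.C_zero, eRa, eRc]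
          have hD : R.D 0 = π gc * (π gw * (π ga)⁻¹ * (π gw)⁻¹) * (π gc)⁻¹ := by rw [R.D_zero, eRa, eRw, eRc]
          simp only [map_mul, map_inv, map_cj, mul_inv_eq_one] at hcol hcom
          simp only [Nat.cast_zero, Nat.cast_one] at row0 col0 com0 hcol hcom ⊢
          have key := R.row_one hR2 (by rw [hA, hA, hA, ← word_quad hp hdeg]; exact hm)
            (by rw [hA, hB]; exact row0) (by rw [hA, hD]; exact col0)
            (by rw [hA, hD]; exact mul_inv_eq_iff_eq_mul.1 hcol)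
            (by rw [hA, hC, com0]; simp only [Core.B, hA, eRw, eRc])
            (by rw [hA, hC]; simp only [Core.B, hA, eRw, eRc]; exact hcom)
          rw [hA, hB] at key
          simp only [map_mul, map_inv, map_cj, mul_inv_eq_one]
          exact mul_inv_eq_iff_eq_mul.2 key

/-- the relators -/
noncomputable def rels (ω : Fˣ) (m : (ZMod p)[X]) (X : List (FreeGroup (Fin 4))) : List (FreeGroup (Fin 4)) :=
  [gc * gc * gc * ga ^ p, gc * gw⁻¹ * gc * gw⁻¹, gh * gk * (gc⁻¹ * gh * gc), gh * gk * gh⁻¹ * gk⁻¹,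
    gh * gk ^ 2 * ga * (gh * gk ^ 2)⁻¹ * ga⁻¹, word ga gk m, ga * (gw * ga * gw⁻¹) * ga * gw⁻¹,
    cj ga gk (-1) * (gw * cj ga gk 1 * gw⁻¹) * cj ga gk (-1) * (gh * gw)⁻¹] ++ X ++
  (if p = 2 then [] else [gw * gh * gw⁻¹ * gh])

theorem ev_rels {ω : Fˣ} {X : List (FreeGroup (Fin 4))} (hX : ∀ r ∈ X, ev ω r = 1) :
    ∀ r ∈ rels (p := p) ω (minpoly (ZMod p) ((ω⁻¹ : Fˣ) : F)) X, ev ω r = 1 := by
  have hP : CharP F p := charP_of_injective_algebraMap (algebraMap (ZMod p) F).injective p
  intro r hr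
  simp only [rels, List.mem_append] at hr
  rcases hr with (hr | hr) | hr
  · simp only [List.mem_cons, List.not_mem_nil, or_false] at hr
    rcases hr with rfl | rfl | rfl | rfl | rfl | rfl | rfl | rfl
    · have hp : ∀ n : ℕ, (tm ne01 (1 : F)) ^ n = tm ne01 (n : F) :=
        fun n => by
          induction n with
          | zero => simp [tm]
          | succ n ih => rw [pow_succ, ih, tm_add, Nat.cast_succ]
      rw [map_mul, map_pow, ev_ga, hp, CharP.cast_eq_zero]
      simp only [map_mul, ev_gc, rel_c3, one_mul]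
      simp [tm]
    · simp only [map_mul, map_inv, ev_gc, ev_gw]; exact rel_swap
    · simp only [map_mul, map_inv, ev_gk, ev_gh, ev_gc]; exact rel_prod ω
    · simp only [map_mul, map_inv, ev_gk, ev_gh]
      rw [(rel_T ω).eq, mul_inv_cancel_right, mul_inv_cancel]
    · simp only [map_mul, map_inv, map_pow, ev_gk, ev_gh, ev_ga]
      rw [(rel_z ω).eq, mul_inv_cancel_right, mul_inv_cancel]
    · rw [map_word, ev_ga, ev_gk, word_eval (fun t => tm ne01 t) (tm_add _)
        (fun t => k_tm ω t), ← Units.val_inv_eq_inv_val, minpoly.aeval]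
      simp [tm]
    · simp only [map_mul, map_inv, ev_ga, ev_gw, mul_inv_eq_one]
      refine sl3_ext ?_
      rw [w_tm, mul_inv_cancel_right]
      have := rel_weyl (F := F) (t := 1) one_ne_zero
      rw [inv_one] at this
      rw [this, coe_wMat]
    · have hA1 : ev ω (cj ga gk 1) = tm ne01 ((ω : F)⁻¹) := by
        have := ev_A ω 1
        rwa [Nat.cast_one, pow_one] at this
      have hAm : ev ω (cj ga gk (-1)) = tm ne01 (ω : F) := by
        rw [map_cj, ev_ga, ev_gk]
        have e := k_tm ω (ω : F)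
        rw [inv_mul_cancel₀ ω.ne_zero] at e
        generalize (cMat * hMat ω * cMat⁻¹ : Matrix.SpecialLinearGroup (Fin 3) F) = K at e ⊢
        rw [cj, ← eq_mul_inv_iff_mul_eq.2 e.symm |>.symm] at *
        group
      rw [map_mul, map_mul, map_mul, map_mul, map_mul, map_inv, map_inv, hA1, hAm, map_mul, ev_gh, ev_gw,
        mul_inv_eq_one, w_tm, mul_inv_cancel_right]
      refine sl3_ext ?_
      rw [rel_weyl ω.ne_zero, Matrix.SpecialLinearGroup.coe_mul, coe_hMat, coe_wMat]
      ext i j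
      fin_cases i <;> fin_cases j <;> simp [Matrix.mul_apply, Fin.sum_univ_three]
  · exact hX r hr
  · split at hr
    · simp at hr
    · simp only [List.mem_cons, List.not_mem_nil, or_false] at hr
      subst hr
      simp only [map_mul, map_inv, ev_gh, ev_gw]; exact rel_inv ω

theorem presentation_thirteen (F : Type*) [Field F] [Finite F] (p : ℕ) [Fact p.Prime] [Algebra (ZMod p) F] :
    ∃ L : List (FreeGroup (Fin 4)), L.length ≤ 13 ∧
      Nonempty (PresentedGroup {r | r ∈ L} ≃* Matrix.SpecialLinearGroup (Fin 3) F) := by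
  obtain ⟨ω, hcyc⟩ := IsCyclic.exists_generator (α := Fˣ)
  obtain ⟨X, hXlen, hXev, hX0, hXfacts⟩ := exists_extra (p := p) hcyc
  have hgen' : ∀ u : F, u = 0 ∨ ∃ n : ℕ, u = ((ω⁻¹ : Fˣ) : F) ^ n := fun u => by
    rcases eq_or_ne u 0 with h | h
    · exact Or.inl h
    · obtain ⟨n, hn⟩ : ∃ n : ℕ, (ω⁻¹) ^ n = Units.mk0 u h :=
        mem_powers_iff_mem_zpowers.2 (by rw [Subgroup.zpowers_inv]; exact hcyc _)
      exact Or.inr ⟨n, by rw [← Units.val_pow_eq_pow_val, hn, Units.val_mk0]⟩
  choose rep hrep using rep_exists (p := p) hgen'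
  obtain ⟨L, hL⟩ : ∃ L, L = rels (p := p) ω (minpoly (ZMod p) ((ω⁻¹ : Fˣ) : F)) X := ⟨_, rfl⟩
  have hLev : ∀ r ∈ {r | r ∈ L}, FreeGroup.lift (gens ω) r = 1 := hL ▸ ev_rels hXev
  let π := PresentedGroup.mk {r | r ∈ L}
  let θ := PresentedGroup.toGroup hLev
  have hθ : θ.comp π = ev ω := FreeGroup.ext_hom _ _ fun x =>
    (PresentedGroup.toGroup.of hLev).trans FreeGroup.lift_apply_of.symm
  have hθx : ∀ v, θ (π v) = ev ω v := fun v => DFunLike.congr_fun hθ v
  have hR : ∀ r ∈ L, π r = 1 := fun r hr => PresentedGroup.one_of_mem hr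
  have hb : ∀ r ∈ rels (p := p) ω (minpoly (ZMod p) ((ω⁻¹ : Fˣ) : F)) X, π r = 1 := hL ▸ hR
  have r1 := hb (gc * gc * gc * ga ^ p) (by simp [rels])
  have r2 := hb (gc * gw⁻¹ * gc * gw⁻¹) (by simp [rels])
  have r3 := hb (gh * gk * (gc⁻¹ * gh * gc)) (by simp [rels])
  have r4 := hb (gh * gk * gh⁻¹ * gk⁻¹) (by simp [rels])
  have r5 := hb (gh * gk ^ 2 * ga * (gh * gk ^ 2)⁻¹ * ga⁻¹) (by simp [rels])
  have r6 := hb (word ga gk (minpoly (ZMod p) ((ω⁻¹ : Fˣ) : F))) (by simp [rels])
  have r7 := hb (ga * (gw * ga * gw⁻¹) * ga * gw⁻¹) (by simp [rels])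
  have r8 := hb (cj ga gk (-1) * (gw * cj ga gk 1 * gw⁻¹) * cj ga gk (-1) * (gh * gw)⁻¹) (by simp [rels])
  rw [map_word] at r6
  have hk : π gk = π gc * π gh * (π gc)⁻¹ := by simp only [gk, map_mul, map_inv]
  simp only [map_mul, map_inv, map_pow, map_cj, mul_inv_eq_one] at r1 r2 r3 r4 r5 r7 r8
  have hp1 : π ga ^ p = 1 := by
    obtain ⟨f1, -, f3⟩ := sRels_facts π (s := 0) fun r hr => hb r (by simp [rels, hX0 r hr])
    rw [Nat.cast_zero, SL2Bounded.cj_zero] at f1 f3
    exact pow_p_eq_one r1 f1 f3 r7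
  have hinv : π gw * π gh * (π gw)⁻¹ = (π gh)⁻¹ := by
    by_cases hp : p = 2
    · exact inv_of_two (by rw [← pow_two, ← hp]; exact hp1) r7 r8
    · have h1 := hb (gw * gh * gw⁻¹ * gh) (by simp [rels, hp])
      simp only [map_mul, map_inv] at h1
      exact eq_inv_of_mul_eq_one_left h1
  let C0 : Core (PresentedGroup {r | r ∈ L}) :=
    { a := π ga
      h := π gh
      w := π gw
      c := π gc
      c3 := by rw [hp1, mul_one] at r1; exact r1
      hs := r2
      hT := by
        rw [mul_inv_eq_iff_eq_mul, hk] at r4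
        exact r4
      hprod := by rw [← hk]; exact r3
      hinv := hinv
      hz := by
        rw [mul_inv_eq_iff_eq_mul, hk] at r5
        exact r5 }
  obtain ⟨S, hS0, hspan, hSrel⟩ := hXfacts _ π r6 (fun r hr => hb r (by simp [rels, hr]))
    fun hp => ⟨C0, rfl, rfl, rfl, rfl, show π ga * π ga = 1 by rw [← pow_two, ← hp]; exact hp1⟩
  have hfacts := fun s hs => sRels_facts π (hSrel s hs)
  let B : Base (PresentedGroup {r | r ∈ L}) :=
    { C0 with
      S := S
      zero_mem := hS0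
      span := by rw [show C0.c * C0.h * C0.c⁻¹ = π gk from hk.symm]; exact hspan
      row := by rw [show C0.c * C0.h * C0.c⁻¹ = π gk from hk.symm]; exact fun s hs => (hfacts s hs).1
      col := by rw [show C0.c * C0.h * C0.c⁻¹ = π gk from hk.symm]; exact fun s hs => (hfacts s hs).2.1
      com := by rw [show C0.c * C0.h * C0.c⁻¹ = π gk from hk.symm]; exact fun s hs => (hfacts s hs).2.2 }
  have hkB : B.k = π gk := hk.symm
  let R : Gen3 ω rep (PresentedGroup {r | r ∈ L}) :=
    { base := B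
      ha := hp1
      hm := by rw [hkB]; exact r6
      hb1 := r7
      hb2 := by simp only [Core.A, hkB]; exact r8
      cyclic := hcyc
      hrep := hrep
      gen := by
        rw [eq_top_iff]
        rintro g -
        obtain ⟨v, rfl⟩ := PresentedGroup.mk_surjective _ g
        induction v using FreeGroup.induction_on with
        | C1 => simp
        | of x => exact Subgroup.subset_closure (by fin_cases x <;> simp [B, C0, π, ga, gh, gw, gc])
        | inv_of x ih => simpa [map_inv] using inv_mem ih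
        | mul x y hx hy => rw [map_mul]; exact mul_mem hx hy }
  have hθ01 : ∀ t : F, θ (R.x t) = tm ne01 t := fun t => by
    rw [Gen3.x, map_word]
    show word (θ (π ga)) (θ B.k) _ = _
    rw [hkB, hθx, hθx, ev_ga, ev_gk, word_eval (fun t => tm ne01 t) (tm_add _)
      (fun t => k_tm ω t), ← Units.val_inv_eq_inv_val, hrep]
  have hw' : θ B.w = wMat := (hθx gw).trans (ev_gw ω)
  have hc' : θ B.c = cMat := (hθx gc).trans (ev_gc ω)
  have hθ10 : ∀ t : F, θ (R.y t) = tm (i := 1) (j := 0) (by decide) t := fun t => by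
    rw [Gen3.y, map_mul, map_mul, map_inv, hθ01]
    show θ B.w * _ * (θ B.w)⁻¹ = _
    rw [hw', w_tm, neg_neg, mul_inv_cancel_right]
  have hθroot : ∀ a b : Fin 3, a ≠ b → ∀ t,
      (θ (R.elem.x a b t) : Matrix (Fin 3) (Fin 3) F) = Matrix.transvection a b t := by
    intro a b hab t
    rw [← coe_tm hab t]
    congr 1
    have hc2 : θ R.base.c = cMat := hc'
    fin_cases a <;> fin_cases b <;> first
      | exact absurd rfl hab
      | exact hθ01 t
      | exact hθ10 t
      | (show θ (R.x13 t) = _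
         rw [Gen3.x13, map_mul, map_mul, map_inv, hθ10, hc2, b_root])
      | (show θ (R.x23 t) = _
         rw [Gen3.x23, map_mul, map_mul, map_inv, hθ01, hc2, c_tm01, mul_inv_cancel_right])
      | (show θ (R.x32 t) = _
         rw [Gen3.x32, map_mul, map_mul, map_inv, hθ10, hc2, c_tm10, mul_inv_cancel_right])
      | (show θ (R.x31 t) = _
         rw [← R.c_x23 t, map_mul, map_mul, map_inv, Gen3.x23, map_mul, map_mul, map_inv, hθ01, hc2, c_tm01,
           mul_inv_cancel_right]
         refine mul_inv_eq_iff_eq_mul.2 (sl3_ext ?_)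
         rw [Matrix.SpecialLinearGroup.coe_mul, Matrix.SpecialLinearGroup.coe_mul, coe_cMat, coe_tm, coe_tm]
         ext i j
         fin_cases i <;> fin_cases j <;>
           simp [Matrix.mul_apply, Fin.sum_univ_three, Matrix.transvection, Matrix.single])
  have hinj := SLn.injective_of_gen (E := R.elem) θ hθroot R.elem_gen (by norm_num)
  have hsurj : Function.Surjective θ := MonoidHom.range_eq_top.1
    (CfsgLib.Classical.closure_transvection_eq_top _ fun i j hij c =>
      ⟨R.elem.x i j c, Subtype.ext (hθroot i j hij c)⟩)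
  refine ⟨L, ?_, ⟨MulEquiv.ofBijective θ ⟨hinj, hsurj⟩⟩⟩
  subst hL
  simp only [rels, List.length_append, List.length_cons, List.length_nil]
  revert hXlen
  split <;> simp <;> omega

theorem presentation (F : Type*) [Field F] [Finite F] (p : ℕ) [Fact p.Prime] [Algebra (ZMod p) F] :
    ∃ L : List (FreeGroup (Fin 4)), L.length ≤ 14 ∧
      Nonempty (PresentedGroup {r | r ∈ L} ≃* Matrix.SpecialLinearGroup (Fin 3) F) := by
  obtain ⟨L, h, e⟩ := presentation_thirteen F p
  exact ⟨L, h.trans (by norm_num), e⟩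

end CfsgLib.Known.SL3Bounded
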