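import Cfsg.Agent.Lib.Known.SL3Bounded.Torus
import Cfsg.Agent.Lib.Known.SLn.Elem

/-!
# The short relations of `SL₃` give the elementary relations
-/

set_option autoImplicit false

open Polynomial
open scoped commutatorElement
open CfsgLib.Known.SL2Bounded (cj word word_add word_congr word_one word_X_mul word_zero)

namespace CfsgLib.Known.SL3Bounded

variable {F : Type*} [Field F] {p : ℕ} [Fact p.Prime] [Algebra (ZMod p) F]

/-- four elements satisfying the short relations, with the field equation -/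
structure Gen3 (ω : Fˣ) (rep : F → (ZMod p)[X]) (G : Type*) [Group G] where
  base : Base G
  ha : base.a ^ p = 1
  hm : word base.a base.k (minpoly (ZMod p) ((ω⁻¹ : Fˣ) : F)) = 1
  hb1 : base.a * (base.w * base.a * base.w⁻¹) * base.a = base.w
  hb2 : base.A (-1) * (base.w * base.A 1 * base.w⁻¹) * base.A (-1) = base.h * base.w
  cyclic : ∀ x : Fˣ, x ∈ Subgroup.zpowers ω
  hrep : ∀ u : F, aeval ((ω⁻¹ : Fˣ) : F) (rep u) = u
  gen : Subgroup.closure ({base.a, base.h, base.w, base.c} : Set G) = ⊤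

namespace Gen3

variable {ω : Fˣ} {rep : F → (ZMod p)[X]} {G : Type*} [Group G] (R : Gen3 ω rep G)

/-- root `12` -/
def x (t : F) : G := word R.base.a R.base.k (rep t)
/-- root `21` -/
def y (t : F) : G := R.base.w * R.x (-t) * R.base.w⁻¹
/-- root `13` -/
def x13 (t : F) : G := R.base.c⁻¹ * R.y t * R.base.c
/-- root `23` -/
def x23 (t : F) : G := R.base.c * R.x t * R.base.c⁻¹
/-- root `31` -/
def x31 (t : F) : G := R.base.c⁻¹ * R.x t * R.base.c
/-- root `32` -/
def x32 (t : F) : G := R.base.c * R.y t * R.base.c⁻¹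

theorem comm_nat (m n : ℕ) : Commute (cj R.base.a R.base.k m) (cj R.base.a R.base.k n) := R.base.AA m n

theorem x_eq {u : F} {P : (ZMod p)[X]} (e : aeval ((ω⁻¹ : Fˣ) : F) P = u) :
    R.x u = word R.base.a R.base.k P :=
  word_congr R.comm_nat R.ha R.hm (by rw [R.hrep, e])

theorem x_add (t u : F) : R.x t * R.x u = R.x (t + u) := by
  rw [R.x_eq (u := t + u) (P := rep t + rep u) (by rw [map_add, R.hrep, R.hrep]), word_add R.comm_nat R.ha]
  rfl

theorem x_zero : R.x 0 = 1 := by rw [R.x_eq (P := 0) (map_zero _), word_zero]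

theorem x_neg (t : F) : R.x (-t) = (R.x t)⁻¹ :=
  eq_inv_of_mul_eq_one_left (by rw [R.x_add, neg_add_cancel, R.x_zero])

theorem x_one : R.x 1 = R.base.a := by rw [R.x_eq (P := 1) (map_one _), word_one]

theorem k_x (u : F) : R.base.k * R.x u * R.base.k⁻¹ = R.x (((ω⁻¹ : Fˣ) : F) * u) := by
  rw [R.x_eq (u := ((ω⁻¹ : Fˣ) : F) * u) (P := X * rep u) (by rw [map_mul, aeval_X, R.hrep]), word_X_mul]
  rfl

theorem x_pow (n : ℤ) : R.x ((ω⁻¹ ^ n : Fˣ) : F) = R.base.A n := by
  suffices h : ∀ u, R.base.k ^ n * R.x u * (R.base.k ^ n)⁻¹ = R.x (((ω⁻¹ ^ n : Fˣ) : F) * u) by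
    have := h 1
    rw [mul_one, R.x_one] at this
    exact this.symm
  induction n with
  | zero => intro u; simp
  | succ k ih =>
    intro u
    rw [zpow_add_one, zpow_add_one, Units.val_mul, mul_assoc (((ω⁻¹ ^ (k : ℤ) : Fˣ) : F)), ← ih, ← R.k_x]
    group
  | pred k ih =>
    intro u
    have e1 : R.base.k⁻¹ * R.x u * R.base.k = R.x ((((ω⁻¹)⁻¹ : Fˣ) : F) * u) := by
      have := R.k_x ((((ω⁻¹)⁻¹ : Fˣ) : F) * u)
      rw [← mul_assoc, ← Units.val_mul, mul_inv_cancel, Units.val_one, one_mul] at this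
      rw [← this]; group
    rw [zpow_sub_one, zpow_sub_one, Units.val_mul, mul_assoc (((ω⁻¹ ^ (-(k : ℤ)) : Fˣ) : F)), ← ih, ← e1]
    group

include R in
theorem cases_pow (t : F) : t = 0 ∨ ∃ n : ℤ, t = ((ω⁻¹ ^ n : Fˣ) : F) := by
  rcases eq_or_ne t 0 with ht | ht
  · exact Or.inl ht
  · obtain ⟨n, hn⟩ := Subgroup.mem_zpowers_iff.1 (R.cyclic (Units.mk0 t ht))
    exact Or.inr ⟨-n, by rw [zpow_neg, inv_zpow, inv_inv, hn, Units.val_mk0]⟩

theorem x13_pow (n : ℤ) : R.x13 ((ω⁻¹ ^ n : Fˣ) : F) = R.base.B n := by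
  rw [x13, y, R.x_neg, R.x_pow]; rfl

theorem x23_pow (n : ℤ) : R.x23 ((ω⁻¹ ^ n : Fˣ) : F) = R.base.C n := by rw [x23, R.x_pow]; rfl

theorem x32_pow (n : ℤ) : R.x32 ((ω⁻¹ ^ n : Fˣ) : F) = R.base.D n := by
  rw [x32, y, R.x_neg, R.x_pow]; rfl

theorem y_zero : R.y 0 = 1 := by simp [y, R.x_zero]
theorem x13_zero : R.x13 0 = 1 := by simp [x13, R.y_zero]
theorem x23_zero : R.x23 0 = 1 := by simp [x23, R.x_zero]
theorem x32_zero : R.x32 0 = 1 := by simp [x32, R.y_zero]

theorem y_add (t u : F) : R.y t * R.y u = R.y (t + u) := by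
  simp only [y, neg_add, ← R.x_add]; group
theorem x13_add (t u : F) : R.x13 t * R.x13 u = R.x13 (t + u) := by
  simp only [x13, ← R.y_add]; group
theorem x23_add (t u : F) : R.x23 t * R.x23 u = R.x23 (t + u) := by
  simp only [x23, ← R.x_add]; group
theorem x31_add (t u : F) : R.x31 t * R.x31 u = R.x31 (t + u) := by
  simp only [x31, ← R.x_add]; group
theorem x32_add (t u : F) : R.x32 t * R.x32 u = R.x32 (t + u) := by
  simp only [x32, ← R.y_add]; group

theorem y_neg (t : F) : R.y (-t) = (R.y t)⁻¹ :=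
  eq_inv_of_mul_eq_one_left (by rw [R.y_add, neg_add_cancel, R.y_zero])
theorem x13_neg (t : F) : R.x13 (-t) = (R.x13 t)⁻¹ :=
  eq_inv_of_mul_eq_one_left (by rw [R.x13_add, neg_add_cancel, R.x13_zero])
theorem x23_neg (t : F) : R.x23 (-t) = (R.x23 t)⁻¹ :=
  eq_inv_of_mul_eq_one_left (by rw [R.x23_add, neg_add_cancel, R.x23_zero])

theorem x_comm (t u : F) : Commute (R.x t) (R.x u) := by
  rw [commute_iff_eq, R.x_add, R.x_add, add_comm]
theorem y_comm (t u : F) : Commute (R.y t) (R.y u) := by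
  rw [commute_iff_eq, R.y_add, R.y_add, add_comm]
theorem x13_comm (t u : F) : Commute (R.x13 t) (R.x13 u) := by
  rw [commute_iff_eq, R.x13_add, R.x13_add, add_comm]

theorem x_x13 (t u : F) : Commute (R.x t) (R.x13 u) := by
  rcases R.cases_pow t with rfl | ⟨n, rfl⟩
  · rw [R.x_zero]; exact Commute.one_left _
  rcases R.cases_pow u with rfl | ⟨m, rfl⟩
  · rw [R.x13_zero]; exact Commute.one_right _
  rw [R.x_pow, R.x13_pow]; exact R.base.AB n m

theorem x_x32 (t u : F) : Commute (R.x t) (R.x32 u) := by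
  rcases R.cases_pow t with rfl | ⟨n, rfl⟩
  · rw [R.x_zero]; exact Commute.one_left _
  rcases R.cases_pow u with rfl | ⟨m, rfl⟩
  · rw [R.x32_zero]; exact Commute.one_right _
  rw [R.x_pow, R.x32_pow]; exact R.base.AD n m

theorem x_x23 (t u : F) : R.x t * R.x23 u * (R.x t)⁻¹ = R.x13 (t * u) * R.x23 u := by
  rcases R.cases_pow t with rfl | ⟨n, rfl⟩
  · simp [R.x_zero, R.x13_zero]
  rcases R.cases_pow u with rfl | ⟨m, rfl⟩
  · simp [R.x23_zero, R.x13_zero]
  rw [← Units.val_mul, ← zpow_add, R.x_pow, R.x23_pow, R.x13_pow]; exact R.base.AC n m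

/-! ### moving the formulas around by `c` -/

theorem c_x (t : F) : R.base.c * R.x t * R.base.c⁻¹ = R.x23 t := rfl

theorem c_x23 (t : F) : R.base.c * R.x23 t * R.base.c⁻¹ = R.x31 t := by
  rw [x23, x31, show R.base.c * (R.base.c * R.x t * R.base.c⁻¹) * R.base.c⁻¹ =
    R.base.c * R.base.c * R.x t * (R.base.c⁻¹ * R.base.c⁻¹) by group, R.base.cc, R.base.cinv2]

theorem c_x31 (t : F) : R.base.c * R.x31 t * R.base.c⁻¹ = R.x t := by rw [x31]; group

theorem c_y (t : F) : R.base.c * R.y t * R.base.c⁻¹ = R.x32 t := rfl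

theorem c_x13 (t : F) : R.base.c * R.x13 t * R.base.c⁻¹ = R.y t := by rw [x13]; group

theorem c_x32 (t : F) : R.base.c * R.x32 t * R.base.c⁻¹ = R.x13 t := by
  rw [x32, x13, show R.base.c * (R.base.c * R.y t * R.base.c⁻¹) * R.base.c⁻¹ =
    R.base.c * R.base.c * R.y t * (R.base.c⁻¹ * R.base.c⁻¹) by group, R.base.cc, R.base.cinv2]

theorem conj_commutator (g a b : G) : g * ⁅a, b⁆ * g⁻¹ = ⁅g * a * g⁻¹, g * b * g⁻¹⁆ := by
  simp only [commutatorElement_def]; group

theorem x23_y (t u : F) : Commute (R.x23 t) (R.y u) := by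
  have := (R.x_x13 t u).map (MulAut.conj R.base.c).toMonoidHom
  simp only [MulEquiv.coe_toMonoidHom, MulAut.conj_apply, c_x, c_x13] at this
  exact this

theorem x23_x13 (t u : F) : Commute (R.x23 t) (R.x13 u) := by
  have := (R.x_x32 t u).map (MulAut.conj R.base.c).toMonoidHom
  simp only [MulEquiv.coe_toMonoidHom, MulAut.conj_apply, c_x, c_x32] at this
  exact this

theorem x31_x32 (t u : F) : Commute (R.x31 t) (R.x32 u) := by
  have := (R.x23_y t u).map (MulAut.conj R.base.c).toMonoidHom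
  simp only [MulEquiv.coe_toMonoidHom, MulAut.conj_apply, c_x23, c_y] at this
  exact this

theorem x31_y (t u : F) : Commute (R.x31 t) (R.y u) := by
  have := (R.x23_x13 t u).map (MulAut.conj R.base.c).toMonoidHom
  simp only [MulEquiv.coe_toMonoidHom, MulAut.conj_apply, c_x23, c_x13] at this
  exact this

/-! ### the second commutator formula -/

theorem w_eq : R.base.w = R.x 1 * R.y (-1) * R.x 1 := by
  rw [y, neg_neg, R.x_one]; exact R.hb1.symm

theorem w_x13 (u : F) : R.base.w * R.x13 u * R.base.w⁻¹ = R.x23 (-u) := by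
  rw [x13, x23, y,
    show R.base.w * (R.base.c⁻¹ * (R.base.w * R.x (-u) * R.base.w⁻¹) * R.base.c) * R.base.w⁻¹ =
      (R.base.w * R.base.c⁻¹) * R.base.w * R.x (-u) * R.base.w⁻¹ * (R.base.w * R.base.c⁻¹)⁻¹ by group,
    R.base.swap']
  group

theorem w_x23 (u : F) : R.base.w * R.x23 u * R.base.w⁻¹ = R.x13 u := by
  have hyB : R.y (-1) * R.x13 u * (R.y (-1))⁻¹ = R.x13 u * R.x23 (-u) := by
    have e : R.x 1 * (R.y (-1) * R.x13 u * (R.y (-1))⁻¹) * (R.x 1)⁻¹ = R.x23 (-u) := by
      rw [← R.w_x13 u, R.w_eq]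
      calc _ = R.x 1 * R.y (-1) * (R.x13 u) * (R.x 1 * R.y (-1))⁻¹ := by group
        _ = R.x 1 * R.y (-1) * (R.x 1 * R.x13 u * (R.x 1)⁻¹) * (R.x 1 * R.y (-1))⁻¹ := by
          rw [(R.x_x13 1 u).eq, mul_inv_cancel_right]
        _ = _ := by group
    have e2 := R.x_x23 (-1) (-u)
    rw [R.x_neg, inv_inv, neg_mul_neg, one_mul, ← e] at e2
    rw [← e]
    calc R.y (-1) * R.x13 u * (R.y (-1))⁻¹
        = (R.x 1)⁻¹ * (R.x 1 * (R.y (-1) * R.x13 u * (R.y (-1))⁻¹) * (R.x 1)⁻¹) * R.x 1 := by group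
      _ = _ := e2
  have hyC : R.y (-1) * R.x23 u * (R.y (-1))⁻¹ = R.x23 u := by
    rw [← (R.x23_y u (-1)).eq, mul_inv_cancel_right]
  calc R.base.w * R.x23 u * R.base.w⁻¹
      = R.x 1 * (R.y (-1) * (R.x 1 * R.x23 u * (R.x 1)⁻¹) * (R.y (-1))⁻¹) * (R.x 1)⁻¹ := by rw [R.w_eq]; group
    _ = R.x 1 * ((R.y (-1) * R.x13 u * (R.y (-1))⁻¹) * (R.y (-1) * R.x23 u * (R.y (-1))⁻¹)) * (R.x 1)⁻¹ := by
      rw [R.x_x23, one_mul]; group
    _ = R.x 1 * R.x13 u * (R.x 1)⁻¹ := by rw [hyB, hyC, mul_assoc (R.x13 u), R.x23_add, neg_add_cancel, R.x23_zero, mul_one]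
    _ = _ := by rw [(R.x_x13 1 u).eq, mul_inv_cancel_right]

theorem comA (t u : F) : ⁅R.x t, R.x23 u⁆ = R.x13 (t * u) := by
  rw [commutatorElement_def, R.x_x23, mul_inv_cancel_right]

theorem comB (t u : F) : ⁅R.y t, R.x13 u⁆ = R.x23 (t * u) := by
  have e := congrArg (fun g => R.base.w * g * R.base.w⁻¹) (R.comA (-t) u)
  simp only [conj_commutator, show R.base.w * R.x (-t) * R.base.w⁻¹ = R.y t from rfl, R.w_x23, R.w_x13] at e
  rw [e, neg_mul, neg_neg]

/-- the six root families -/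
def root (i j : Fin 3) : F → G :=
  ![![fun _ => 1, R.x, R.x13], ![R.y, fun _ => 1, R.x23], ![R.x31, R.x32, fun _ => 1]] i j

theorem root_comm {i j l : Fin 3} (hij : i ≠ j) (hjl : j ≠ l) (hil : i ≠ l) (t u : F) :
    ⁅R.root i j t, R.root j l u⁆ = R.root i l (t * u) := by
  have shift : ∀ {a b d : G}, ⁅a, b⁆ = d →
      ⁅R.base.c * a * R.base.c⁻¹, R.base.c * b * R.base.c⁻¹⁆ = R.base.c * d * R.base.c⁻¹ :=
    fun e => by rw [← conj_commutator, e]
  have a1 := shift (R.comA t u)
  rw [R.c_x, R.c_x23, R.c_x13] at a1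
  have a2 := shift a1
  rw [R.c_x23, R.c_x31, R.c_y] at a2
  have b1 := shift (R.comB t u)
  rw [R.c_y, R.c_x13, R.c_x23] at b1
  have b2 := shift b1
  rw [R.c_x32, R.c_y, R.c_x31] at b2
  fin_cases i <;> fin_cases j <;> first
    | exact absurd rfl hij
    | (fin_cases l <;> first
        | exact absurd rfl hil
        | exact absurd rfl hjl
        | exact R.comA t u
        | exact a1
        | exact a2
        | exact R.comB t u
        | exact b1
        | exact b2)

theorem root_triv {i j k l : Fin 3} (hij : i ≠ j) (hkl : k ≠ l) (hjk : j ≠ k) (hil : i ≠ l) (t u : F) :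
    Commute (R.root i j t) (R.root k l u) := by
  have h31 : ∀ t u, Commute (R.x31 t) (R.x31 u) := fun t u => by
    rw [commute_iff_eq, R.x31_add, R.x31_add, add_comm]
  have h32 : ∀ t u, Commute (R.x32 t) (R.x32 u) := fun t u => by
    rw [commute_iff_eq, R.x32_add, R.x32_add, add_comm]
  have h23 : ∀ t u, Commute (R.x23 t) (R.x23 u) := fun t u => by
    rw [commute_iff_eq, R.x23_add, R.x23_add, add_comm]
  fin_cases i <;> fin_cases j <;> first
    | exact absurd rfl hij
    | (fin_cases k <;> fin_cases l <;> first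
        | exact absurd rfl hkl
        | exact absurd rfl hil
        | exact absurd rfl hjk
        | exact R.x_comm t u
        | exact R.y_comm t u
        | exact R.x13_comm t u
        | exact h31 t u
        | exact h32 t u
        | exact h23 t u
        | exact R.x_x13 t u
        | exact (R.x_x13 u t).symm
        | exact R.x_x32 t u
        | exact (R.x_x32 u t).symm
        | exact R.x23_y t u
        | exact (R.x23_y u t).symm
        | exact R.x23_x13 t u
        | exact (R.x23_x13 u t).symm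
        | exact R.x31_x32 t u
        | exact (R.x31_x32 u t).symm
        | exact R.x31_y t u
        | exact (R.x31_y u t).symm)

theorem root_add {i j : Fin 3} (hij : i ≠ j) (t u : F) : R.root i j t * R.root i j u = R.root i j (t + u) := by
  fin_cases i <;> fin_cases j <;> first
    | exact absurd rfl hij
    | exact R.x_add t u
    | exact R.y_add t u
    | exact R.x13_add t u
    | exact R.x23_add t u
    | exact R.x31_add t u
    | exact R.x32_add t u

/-- the elementary family -/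
def elem : SLn.Elem (Fin 3) F G where
  x := R.root
  add _ _ hij := R.root_add hij
  comm _ _ _ hij hjl hil := R.root_comm hij hjl hil
  triv _ _ _ _ hij hkl hjk hil := R.root_triv hij hkl hjk hil
  third := by decide

theorem elem_gen : R.elem.Gen := by
  obtain ⟨H, hH⟩ : ∃ H, H = Subgroup.closure {g | ∃ i j t, i ≠ j ∧ g = R.elem.x i j t} := ⟨_, rfl⟩
  unfold SLn.Elem.Gen
  rw [← hH]
  have hr : ∀ i j t, i ≠ j → R.root i j t ∈ H := fun i j t hij => hH ▸ Subgroup.subset_closure ⟨i, j, t, hij, rfl⟩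
  have hx : ∀ t, R.x t ∈ H := fun t => hr 0 1 t (by decide)
  have hy : ∀ t, R.y t ∈ H := fun t => hr 1 0 t (by decide)
  have hw : R.base.w ∈ H := R.w_eq ▸ mul_mem (mul_mem (hx 1) (hy (-1))) (hx 1)
  have hA : ∀ n, R.base.A n ∈ H := fun n => R.x_pow n ▸ hx _
  have hh : R.base.h ∈ H := by
    have := mul_mem (mul_mem (mul_mem (hA (-1)) (mul_mem (mul_mem hw (hA 1)) (inv_mem hw))) (hA (-1))) (inv_mem hw)
    rwa [R.hb2, mul_inv_cancel_right] at this
  have hcH : ∀ g ∈ H, R.base.c⁻¹ * g * R.base.c ∈ H := by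
    intro g hg
    have hle : H ≤ H.comap (MulAut.conj R.base.c⁻¹).toMonoidHom := by
      conv_lhs => rw [hH]
      refine (Subgroup.closure_le _).2 ?_
      rintro _ ⟨i, j, t, hij, rfl⟩
      show R.base.c⁻¹ * R.root i j t * R.base.c⁻¹⁻¹ ∈ H
      rw [inv_inv]
      have back : ∀ {a b : G}, R.base.c * a * R.base.c⁻¹ = b → R.base.c⁻¹ * b * R.base.c = a :=
        fun e => by rw [← e]; group
      fin_cases i <;> fin_cases j <;> first
        | exact absurd rfl hij
        | (show R.base.c⁻¹ * R.x t * R.base.c ∈ H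
           rw [back (R.c_x31 t)]; exact hr 2 0 t (by decide))
        | (show R.base.c⁻¹ * R.x13 t * R.base.c ∈ H
           rw [back (R.c_x32 t)]; exact hr 2 1 t (by decide))
        | (show R.base.c⁻¹ * R.y t * R.base.c ∈ H
           rw [back (R.c_x13 t)]; exact hr 0 2 t (by decide))
        | (show R.base.c⁻¹ * R.x23 t * R.base.c ∈ H
           rw [back (R.c_x t)]; exact hx t)
        | (show R.base.c⁻¹ * R.x31 t * R.base.c ∈ H
           rw [back (R.c_x23 t)]; exact hr 1 2 t (by decide))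
        | (show R.base.c⁻¹ * R.x32 t * R.base.c ∈ H
           rw [back (R.c_y t)]; exact hy t)
    simpa using hle hg
  have hc : R.base.c ∈ H := by
    have h2 : R.base.c * R.base.c ∈ H := by
      have := mul_mem hw (inv_mem (hcH _ (inv_mem hw)))
      rw [show R.base.w * (R.base.c⁻¹ * R.base.w⁻¹ * R.base.c)⁻¹ = R.base.w * R.base.c⁻¹ * R.base.w * R.base.c by group,
        R.base.swap'] at this
      rwa [show R.base.c * R.base.w⁻¹ * R.base.w * R.base.c = R.base.c * R.base.c by group] at this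
    rw [R.base.cc] at h2
    simpa using inv_mem h2
  rw [eq_top_iff, ← R.gen, Subgroup.closure_le]
  rintro g (rfl | rfl | rfl | rfl)
  exacts [R.x_one ▸ hx 1, hh, hw, hc]

end Gen3

end CfsgLib.Known.SL3Bounded
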