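import Cfsg.Agent.Lib.Known.SL2Bounded.Word

/-!
# The short relations of `SL₃`: torus and root families
-/

set_option autoImplicit false

open Polynomial
open CfsgLib.Known.SL2Bounded (cj conj_cj comm_closure conj_closure_mem)

namespace CfsgLib.Known.SL3Bounded

variable {G : Type*} [Group G]

/-- the exponent relation hidden in the relation on the cube of `c` -/
theorem pow_p_eq_one {a w c : G} {p : ℕ} (r1 : c * c * c * a ^ p = 1)
    (row : Commute a (c⁻¹ * (w * a⁻¹ * w⁻¹) * c))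
    (hcom : a * (c * a * c⁻¹) * a⁻¹ = c⁻¹ * (w * a⁻¹ * w⁻¹) * c * (c * a * c⁻¹))
    (hb1 : a * (w * a * w⁻¹) * a = w) : a ^ p = 1 := by
  obtain ⟨e, he⟩ : ∃ e, e = a ^ p := ⟨_, rfl⟩
  obtain ⟨b, hb⟩ : ∃ b, b = c⁻¹ * (w * a⁻¹ * w⁻¹) * c := ⟨_, rfl⟩
  rw [← hb] at row hcom
  have hea : Commute e a := he ▸ Commute.pow_self a p
  have hec : Commute e c := by
    have h3 : e = (c * c * c)⁻¹ := eq_inv_of_mul_eq_one_right (he ▸ r1)
    rw [h3]
    exact (((Commute.refl c).mul_left (Commute.refl c)).mul_left (Commute.refl c)).inv_left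
  have hea' : Commute e (c * a * c⁻¹) := (hec.mul_right hea).mul_right hec.inv_right
  have heb : Commute e b := he ▸ row.pow_left p
  have hey : Commute e (w * a * w⁻¹) := by
    have h1 : Commute e (c * b * c⁻¹) := (hec.mul_right heb).mul_right hec.inv_right
    rw [show c * b * c⁻¹ = (w * a * w⁻¹)⁻¹ by rw [hb]; group] at h1
    exact Commute.inv_right_iff.1 h1
  have hew : Commute e w := hb1 ▸ (hea.mul_right hey).mul_right hea
  have hbp : b ^ p = e⁻¹ := by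
    have h1 : b ^ p = c⁻¹ * (w * e⁻¹ * w⁻¹) * c := by
      have := conj_pow (a := c⁻¹) (b := w * a⁻¹ * w⁻¹) (i := p)
      rw [inv_inv] at this
      rw [hb, this, conj_pow, inv_pow, ← he]
    rw [h1, ← hew.inv_left.eq, mul_inv_cancel_right, ← hec.inv_left.inv_right.eq, inv_mul_cancel_right]
  have hn : ∀ n : ℕ, a ^ n * (c * a * c⁻¹) * (a ^ n)⁻¹ = b ^ n * (c * a * c⁻¹) := by
    intro n
    induction n with
    | zero => simp
    | succ n ih =>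
      calc a ^ (n + 1) * (c * a * c⁻¹) * (a ^ (n + 1))⁻¹
          = a * (a ^ n * (c * a * c⁻¹) * (a ^ n)⁻¹) * a⁻¹ := by rw [pow_succ']; group
        _ = a * b ^ n * (c * a * c⁻¹) * a⁻¹ := by rw [ih]; group
        _ = b ^ n * (a * (c * a * c⁻¹) * a⁻¹) := by rw [(row.pow_right n).eq]; group
        _ = _ := by rw [hcom, pow_succ]; group
  have h2 := hn p
  rw [← he, hea'.eq, mul_inv_cancel_right, hbp] at h2
  rw [← he]
  exact inv_eq_one.1 (mul_eq_right.1 h2.symm)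

/-- the relations of the torus and of its action on one root element -/
structure Core (G : Type*) [Group G] where
  a : G
  h : G
  w : G
  c : G
  c3 : c * c * c = 1
  hs : c * w⁻¹ * c = w
  hT : Commute h (c * h * c⁻¹)
  hprod : h * (c * h * c⁻¹) * (c⁻¹ * h * c) = 1
  hinv : w * h * w⁻¹ = h⁻¹
  hz : Commute (h * (c * h * c⁻¹) ^ 2) a

/-- the relations without the field equation -/
structure Base (G : Type*) [Group G] extends Core G where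
  S : Finset ℕ
  zero_mem : 0 ∈ S
  span : ∀ n : ℤ, cj a (c * h * c⁻¹) n ∈
    Subgroup.closure {g | ∃ i : ℤ, ∃ s ∈ S, g = cj a (c * h * c⁻¹) (3 * i + s)}
  row : ∀ s ∈ S, Commute (cj a (c * h * c⁻¹) (s : ℕ)) (c⁻¹ * (w * a⁻¹ * w⁻¹) * c)
  col : ∀ s ∈ S, Commute (cj a (c * h * c⁻¹) (s : ℕ)) (c * (w * a⁻¹ * w⁻¹) * c⁻¹)
  com : ∀ s ∈ S, cj a (c * h * c⁻¹) (s : ℕ) * (c * a * c⁻¹) * (cj a (c * h * c⁻¹) (s : ℕ))⁻¹ =
    c⁻¹ * (w * (cj a (c * h * c⁻¹) (s : ℕ))⁻¹ * w⁻¹) * c * (c * a * c⁻¹)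

namespace Core

variable (R : Core G)
/-- second torus generator -/
def k : G := R.c * R.h * R.c⁻¹

/-- torus element -/
def T (i j : ℤ) : G := R.h ^ i * R.k ^ j

/-- family of the root `12` -/
def A (n : ℤ) : G := cj R.a R.k n

/-- family of the root `13` -/
def B (n : ℤ) : G := R.c⁻¹ * (R.w * (R.A n)⁻¹ * R.w⁻¹) * R.c

/-- family of the root `23` -/
def C (n : ℤ) : G := R.c * R.A n * R.c⁻¹

/-- family of the root `32` -/
def D (n : ℤ) : G := R.c * (R.w * (R.A n)⁻¹ * R.w⁻¹) * R.c⁻¹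

theorem A_zero : R.A 0 = R.a := SL2Bounded.cj_zero _ _

theorem cc : R.c * R.c = R.c⁻¹ := eq_inv_of_mul_eq_one_left R.c3

theorem cinv2 : R.c⁻¹ * R.c⁻¹ = R.c := by rw [← mul_inv_rev, R.cc, inv_inv]

theorem swap : R.c⁻¹ * R.w = R.w⁻¹ * R.c := by
  calc R.c⁻¹ * R.w = R.c⁻¹ * (R.c * R.w⁻¹ * R.c) := by rw [R.hs]
    _ = _ := by group

theorem swap' : R.w * R.c⁻¹ = R.c * R.w⁻¹ := by
  calc R.w * R.c⁻¹ = R.c * R.w⁻¹ * R.c * R.c⁻¹ := by rw [R.hs]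
    _ = _ := by group

theorem k2 : R.c⁻¹ * R.h * R.c = (R.h * R.k)⁻¹ := eq_inv_of_mul_eq_one_right R.hprod

theorem T_mul (i j i' j' : ℤ) : R.T i j * R.T i' j' = R.T (i + i') (j + j') := by
  have hc : Commute (R.k ^ j) (R.h ^ i') := (R.hT.symm.zpow_left j).zpow_right i'
  simp only [T, zpow_add]
  rw [mul_assoc, ← mul_assoc (R.k ^ j), hc.eq]
  group

theorem hk_zpow (i : ℤ) : (R.h * R.k) ^ i = R.T i i := (R.hT : Commute R.h R.k).mul_zpow i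

theorem w_T (i j : ℤ) : R.w⁻¹ * R.T i j * R.w = R.T (j - i) j := by
  have h1 : R.w⁻¹ * R.h * R.w = R.h⁻¹ := by
    have := congrArg (fun g => R.w⁻¹ * g⁻¹ * R.w) R.hinv
    simp only [inv_inv] at this
    rw [← this]; group
  have h2 : R.w⁻¹ * R.k * R.w = R.h * R.k := by
    rw [← inv_inv (R.h * R.k), ← R.k2, k,
      show R.w⁻¹ * (R.c * R.h * R.c⁻¹) * R.w = R.w⁻¹ * R.c * R.h * (R.c⁻¹ * R.w) by group, R.swap]
    conv_lhs => rw [← R.swap]
    rw [show R.c⁻¹ * R.w * R.h * (R.c⁻¹ * R.w) = R.c⁻¹ * (R.w * R.h * (R.c⁻¹ * R.w)) by group, R.swap,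
      show R.w * R.h * (R.w⁻¹ * R.c) = R.w * R.h * R.w⁻¹ * R.c by group, R.hinv]
    group
  rw [T, show R.w⁻¹ * (R.h ^ i * R.k ^ j) * R.w =
      (R.w⁻¹ * R.h * R.w⁻¹⁻¹) ^ i * (R.w⁻¹ * R.k * R.w⁻¹⁻¹) ^ j by rw [conj_zpow, conj_zpow]; group,
    inv_inv, h1, h2, R.hk_zpow, inv_zpow, ← zpow_neg, show R.h ^ (-i) = R.T (-i) 0 by simp [T], R.T_mul]
  congr 1 <;> ring

theorem c_T (i j : ℤ) : R.c * R.T i j * R.c⁻¹ = R.T (-j) (i - j) := by
  have h2 : R.c * R.k * R.c⁻¹ = (R.h * R.k)⁻¹ := by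
    rw [← R.k2, k, show R.c * (R.c * R.h * R.c⁻¹) * R.c⁻¹ = (R.c * R.c) * R.h * (R.c⁻¹ * R.c⁻¹) by group,
      R.cc, R.cinv2]
  rw [T, show R.c * (R.h ^ i * R.k ^ j) * R.c⁻¹ = (R.c * R.h * R.c⁻¹) ^ i * (R.c * R.k * R.c⁻¹) ^ j by
      rw [conj_zpow, conj_zpow]; group, h2, inv_zpow, ← zpow_neg, R.hk_zpow,
    show (R.c * R.h * R.c⁻¹) ^ i = R.T 0 i by simp [T, k], R.T_mul]
  congr 1 <;> ring

theorem cinv_T (i j : ℤ) : R.c⁻¹ * R.T i j * R.c = R.T (j - i) (-i) := by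
  have h1 := R.c_T (j - i) (-i)
  rw [neg_neg, show j - i - -i = j by ring] at h1
  rw [← h1]; group

theorem T_A (i j n : ℤ) : R.T i j * R.A n * (R.T i j)⁻¹ = R.A (n + j - 2 * i) := by
  have hz : Commute ((R.h * R.k ^ 2) ^ i) R.a := R.hz.zpow_left i
  have hmul : (R.h * R.k ^ 2) ^ i = R.T i (2 * i) := by
    rw [((show Commute R.h R.k from R.hT).pow_right 2).mul_zpow, T, ← zpow_natCast R.k 2, ← zpow_mul, Nat.cast_ofNat]
  have hAT : ∀ m : ℤ, R.A m = R.T 0 m * R.a * (R.T 0 m)⁻¹ := fun m => by simp [A, cj, T]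
  rw [hAT n, hAT, show R.T i j * (R.T 0 n * R.a * (R.T 0 n)⁻¹) * (R.T i j)⁻¹ =
    R.T i j * R.T 0 n * R.a * (R.T i j * R.T 0 n)⁻¹ by group, R.T_mul,
    show R.T (i + 0) (j + n) = R.T 0 (n + j - 2 * i) * R.T i (2 * i) by rw [R.T_mul]; congr 1 <;> ring, ← hmul]
  calc _ = R.T 0 (n + j - 2 * i) * ((R.h * R.k ^ 2) ^ i * R.a * ((R.h * R.k ^ 2) ^ i)⁻¹) *
      (R.T 0 (n + j - 2 * i))⁻¹ := by group
    _ = _ := by rw [hz.eq, mul_inv_cancel_right]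

theorem T_B (i j n : ℤ) : R.T i j * R.B n * (R.T i j)⁻¹ = R.B (n - i - j) := by
  have e : R.w⁻¹ * (R.c * R.T i j * R.c⁻¹) * R.w = R.T i (i - j) := by
    rw [R.c_T, R.w_T]; congr 1; ring
  calc R.T i j * R.B n * (R.T i j)⁻¹ = R.c⁻¹ * (R.w * ((R.w⁻¹ * (R.c * R.T i j * R.c⁻¹) * R.w) * R.A n *
        (R.w⁻¹ * (R.c * R.T i j * R.c⁻¹) * R.w)⁻¹)⁻¹ * R.w⁻¹) * R.c := by rw [B]; group
    _ = _ := by rw [e, R.T_A, B]; congr 6; ring

theorem T_C (i j n : ℤ) : R.T i j * R.C n * (R.T i j)⁻¹ = R.C (n + i - 2 * j) := by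
  calc R.T i j * R.C n * (R.T i j)⁻¹ = R.c * ((R.c⁻¹ * R.T i j * R.c) * R.A n *
        (R.c⁻¹ * R.T i j * R.c)⁻¹) * R.c⁻¹ := by rw [C]; group
    _ = _ := by rw [R.cinv_T, R.T_A, C]; congr 3; ring

theorem T_D (i j n : ℤ) : R.T i j * R.D n * (R.T i j)⁻¹ = R.D (n - i + 2 * j) := by
  have e : R.w⁻¹ * (R.c⁻¹ * R.T i j * R.c) * R.w = R.T (-j) (-i) := by
    rw [R.cinv_T, R.w_T]; congr 1; ring
  calc R.T i j * R.D n * (R.T i j)⁻¹ = R.c * (R.w * ((R.w⁻¹ * (R.c⁻¹ * R.T i j * R.c) * R.w) * R.A n *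
        (R.w⁻¹ * (R.c⁻¹ * R.T i j * R.c) * R.w)⁻¹)⁻¹ * R.w⁻¹) * R.c⁻¹ := by rw [D]; group
    _ = _ := by rw [e, R.T_A, D]; congr 6; ring

theorem conj_commute {g x y : G} (e : Commute x y) : Commute (g * x * g⁻¹) (g * y * g⁻¹) :=
  e.map (MulAut.conj g).toMonoidHom

theorem B_zero : R.B 0 = R.c⁻¹ * (R.w * R.a⁻¹ * R.w⁻¹) * R.c := by rw [B, A_zero]

theorem C_zero : R.C 0 = R.c * R.a * R.c⁻¹ := by rw [C, A_zero]

theorem D_zero : R.D 0 = R.c * (R.w * R.a⁻¹ * R.w⁻¹) * R.c⁻¹ := by rw [D, A_zero]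

end Core

namespace Base

open Core

variable (R : Base G)

theorem all_of_orbit {g : G} (hS : ∀ s ∈ R.S, ∀ i : ℤ, Commute (R.A (3 * i + s)) g) (n : ℤ) :
    Commute (R.A n) g := by
  have hle : Subgroup.closure {g | ∃ i : ℤ, ∃ s ∈ R.S, g = cj R.a R.k (3 * i + s)} ≤
      Subgroup.centralizer {g} := (Subgroup.closure_le _).2 (by
    rintro _ ⟨i, s, hs, rfl⟩
    exact Subgroup.mem_centralizer_singleton_iff.2 (hS s hs i).eq)
  exact Subgroup.mem_centralizer_singleton_iff.1 (hle (R.span n))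

theorem AB (n m : ℤ) : Commute (R.A n) (R.B m) := by
  have h0 : ∀ n, Commute (R.A n) (R.B 0) := R.all_of_orbit fun s hs i => by
    have e : Commute (R.A s) (R.B 0) := by rw [B_zero]; exact R.row s hs
    have := conj_commute (g := R.T (-i) i) e
    rwa [R.T_A, R.T_B, show (s : ℤ) + i - 2 * -i = 3 * i + s by ring, show (0 : ℤ) - -i - i = 0 by ring] at this
  have := conj_commute (g := R.T 0 (-m)) (h0 (n + m))
  rwa [R.T_A, R.T_B, show n + m + -m - 2 * 0 = n by ring, show (0 : ℤ) - 0 - -m = m by ring] at this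

theorem AD (n m : ℤ) : Commute (R.A n) (R.D m) := by
  have h0 : ∀ n, Commute (R.A n) (R.D 0) := R.all_of_orbit fun s hs i => by
    have e : Commute (R.A s) (R.D 0) := by rw [D_zero]; exact R.col s hs
    have := conj_commute (g := R.T (-2 * i) (-i)) e
    rwa [R.T_A, R.T_D, show (s : ℤ) + -i - 2 * (-2 * i) = 3 * i + s by ring,
      show (0 : ℤ) - -2 * i + 2 * -i = 0 by ring] at this
  have := conj_commute (g := R.T (-m) 0) (h0 (n - 2 * m))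
  rwa [R.T_A, R.T_D, show n - 2 * m + 0 - 2 * -m = n by ring, show (0 : ℤ) - -m + 2 * 0 = m by ring] at this

theorem CB (n m : ℤ) : Commute (R.C n) (R.B m) := by
  have := conj_commute (g := R.c) (R.AD n m)
  rwa [show R.c * R.D m * R.c⁻¹ = R.c * R.c * (R.w * (R.A m)⁻¹ * R.w⁻¹) * (R.c⁻¹ * R.c⁻¹) by rw [D]; group,
    R.cc, R.cinv2] at this

theorem AA (n m : ℤ) : Commute (R.A n) (R.A m) := by
  refine SL2Bounded.comm_of_nat (a := R.a) (h := R.k) (fun k => ?_) n m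
  have hb : R.B 0 = R.A 0 * R.C 0 * (R.A 0)⁻¹ * (R.C 0)⁻¹ := by
    have e := R.com 0 R.zero_mem
    rw [Nat.cast_zero, SL2Bounded.cj_zero] at e
    rw [R.A_zero, R.C_zero, R.B_zero, e, mul_inv_cancel_right]
  have hBB : Commute (R.B (k : ℤ)) (R.B 0) := by
    have h1 := (R.AB 0 k).symm
    have h2 := (R.CB 0 k).symm
    rw [hb]
    exact ((h1.mul_right h2).mul_right h1.inv_right).mul_right h2.inv_right
  have h3 := conj_commute (g := R.w⁻¹ * R.c) hBB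
  simp only [B] at h3
  rw [show ∀ g : G, R.w⁻¹ * R.c * (R.c⁻¹ * (R.w * g * R.w⁻¹) * R.c) * (R.w⁻¹ * R.c)⁻¹ = g by intro g; group,
    show ∀ g : G, R.w⁻¹ * R.c * (R.c⁻¹ * (R.w * g * R.w⁻¹) * R.c) * (R.w⁻¹ * R.c)⁻¹ = g by intro g; group,
    Commute.inv_left_iff, Commute.inv_right_iff, R.A_zero] at h3
  exact h3.symm

theorem AC (n m : ℤ) : R.A n * R.C m * (R.A n)⁻¹ = R.B (n + m) * R.C m := by
  obtain ⟨φ, hφ⟩ : ∃ φ : G → G, φ = fun g => R.c⁻¹ * (R.w * g⁻¹ * R.w⁻¹) * R.c := ⟨_, rfl⟩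
  have φmul : ∀ x y, φ (x * y) = φ y * φ x := fun x y => by simp only [hφ]; group
  have φA : ∀ n, φ (R.A n) = R.B n := fun n => by simp only [hφ, B]
  obtain ⟨S3, hS3⟩ : ∃ S3, S3 = {g | ∃ i : ℤ, ∃ s ∈ R.S, g = cj R.a R.k (3 * i + s)} := ⟨_, rfl⟩
  have hcomm : ∀ x ∈ Subgroup.closure S3, ∀ y ∈ Subgroup.closure S3, Commute x (φ y) := by
    intro x hx y hy
    induction hx using Subgroup.closure_induction with
    | mem x hx =>
      rw [hS3] at hx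
      obtain ⟨i, s, hs, rfl⟩ := hx
      induction hy using Subgroup.closure_induction with
      | mem y hy => rw [hS3] at hy; obtain ⟨j, t, ht, rfl⟩ := hy; exact (φA _).symm ▸ R.AB _ _
      | one => simp [hφ]
      | mul u v _ _ hu hv => rw [φmul]; exact hv.mul_right hu
      | inv u _ hu =>
        rw [show φ u⁻¹ = (φ u)⁻¹ by simp only [hφ]; group]; exact hu.inv_right
    | one => exact Commute.one_left _
    | mul u v _ _ hu hv => exact hu.mul_left hv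
    | inv u _ hu => exact hu.inv_left
  have key : ∀ g ∈ Subgroup.closure S3, g * R.C 0 * g⁻¹ = φ g * R.C 0 := by
    intro g hg
    induction hg using Subgroup.closure_induction with
    | mem g hg =>
      rw [hS3] at hg
      obtain ⟨i, s, hs, rfl⟩ := hg
      have e := congrArg (fun g => R.T (-2 * i) (-i) * g * (R.T (-2 * i) (-i))⁻¹)
        (show R.A s * R.C 0 * (R.A s)⁻¹ = R.B s * R.C 0 by rw [C_zero, B]; exact R.com s hs)
      simp only [show R.T (-2 * i) (-i) * (R.A s * R.C 0 * (R.A s)⁻¹) * (R.T (-2 * i) (-i))⁻¹ =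
          (R.T (-2 * i) (-i) * R.A s * (R.T (-2 * i) (-i))⁻¹) *
          (R.T (-2 * i) (-i) * R.C 0 * (R.T (-2 * i) (-i))⁻¹) *
          (R.T (-2 * i) (-i) * R.A s * (R.T (-2 * i) (-i))⁻¹)⁻¹ by group,
        show R.T (-2 * i) (-i) * (R.B s * R.C 0) * (R.T (-2 * i) (-i))⁻¹ =
          (R.T (-2 * i) (-i) * R.B s * (R.T (-2 * i) (-i))⁻¹) *
          (R.T (-2 * i) (-i) * R.C 0 * (R.T (-2 * i) (-i))⁻¹) by group, R.T_A, R.T_B, R.T_C] at e
      rw [show (0 : ℤ) + -2 * i - 2 * -i = 0 by ring, show (s : ℤ) + -i - 2 * (-2 * i) = 3 * i + s by ring,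
        show (s : ℤ) - -2 * i - -i = 3 * i + s by ring] at e
      exact e.trans (by rw [← φA]; rfl)
    | one => simp [hφ]
    | mul x y hx hy ihx ihy =>
      calc x * y * R.C 0 * (x * y)⁻¹ = x * (y * R.C 0 * y⁻¹) * x⁻¹ := by group
        _ = x * φ y * R.C 0 * x⁻¹ := by rw [ihy]; group
        _ = φ y * (x * R.C 0 * x⁻¹) := by rw [(hcomm x hx y hy).eq]; group
        _ = _ := by rw [ihx, φmul, mul_assoc]
    | inv x hx ihx =>
      rw [show φ x⁻¹ = (φ x)⁻¹ by simp only [hφ]; group]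
      have hc : Commute x⁻¹ (φ x)⁻¹ := (hcomm x hx x hx).inv_inv
      calc x⁻¹ * R.C 0 * x⁻¹⁻¹ = x⁻¹ * ((φ x)⁻¹ * (φ x * R.C 0)) * x := by group
        _ = x⁻¹ * (φ x)⁻¹ * (x * R.C 0 * x⁻¹) * x := by rw [ihx]; group
        _ = (φ x)⁻¹ * (x⁻¹ * (x * R.C 0 * x⁻¹) * x) := by rw [hc.eq]; group
        _ = _ := by group
  have e := congrArg (fun g => R.T m 0 * g * (R.T m 0)⁻¹) (key (R.A (n + 2 * m)) (hS3 ▸ R.span _))
  simp only [φA, show R.T m 0 * (R.A (n + 2 * m) * R.C 0 * (R.A (n + 2 * m))⁻¹) * (R.T m 0)⁻¹ =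
      (R.T m 0 * R.A (n + 2 * m) * (R.T m 0)⁻¹) * (R.T m 0 * R.C 0 * (R.T m 0)⁻¹) *
      (R.T m 0 * R.A (n + 2 * m) * (R.T m 0)⁻¹)⁻¹ by group,
    show R.T m 0 * (R.B (n + 2 * m) * R.C 0) * (R.T m 0)⁻¹ =
      (R.T m 0 * R.B (n + 2 * m) * (R.T m 0)⁻¹) * (R.T m 0 * R.C 0 * (R.T m 0)⁻¹) by group,
    R.T_A, R.T_B, R.T_C] at e
  rwa [show n + 2 * m + 0 - 2 * m = n by ring, show (0 : ℤ) + m - 2 * 0 = m by ring,
    show n + 2 * m - m - 0 = n + m by ring] at e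

end Base

end CfsgLib.Known.SL3Bounded
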